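import Cfsg.Agent.Lib.Helper92.J1.CovKData
import Cfsg.Agent.Lib.Helper92.J1.Cov19Data
import Cfsg.Agent.Lib.Helper92.J1.Cov7Data

/-!
# Centralisers in `J1` of elements of orders 2, 5, 7, 11, 19
-/

set_option autoImplicit false

namespace Cfsg.Agent.Lib.Helper92.J1

open Cfsg
open Cfsg.Agent.Lib.Helper27
open Cfsg.Agent.Lib.Helper92
open scoped MatrixGroups

/-! ### the cover by `11 : 10` -/

theorem covK : Cover KK (nth2 TT 38) 1596 := ⟨J1_subset, by rw [card_KK]⟩

theorem a_mem_KK : aG ∈ KK := Subgroup.subset_closure (Or.inl rfl)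
theorem b_mem_KK : bG ∈ KK := Subgroup.subset_closure (Or.inr rfl)

theorem certA_ok :
    certB aC (nth2 TT 38) (nth KT) (nth2 ciA 38) (nth2 ckA 38) 1596 110 = true := by decide +kernel
theorem centA_ok : centB aC (nth2 TT 38) (nth KT) (nth2 ciA 38) 1596 110 centA = true := by
  decide +kernel

theorem cent_a : ∀ g ∈ Spor.J1, g * aG = aG * g → ∃ c ∈ centA, HasCode g c :=
  covK.cent_subset hasCode_a a_mem_KK mem_KK_iff exists_KK certA_ok centA_ok

/-- the involution `b ^ 5`. -/
def t0G : GL7 := bG ^ 5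

theorem hasCode_t0 : HasCode t0G codeT0 := by
  have := hasCode_b.pow 5
  rwa [show powM bC 5 = codeT0 by decide +kernel] at this

theorem certT0_ok :
    certB codeT0 (nth2 TT 38) (nth KT) (nth2 ciT0 38) (nth2 ckT0 38) 1596 110 = true := by
  decide +kernel
theorem centT0_ok : centB codeT0 (nth2 TT 38) (nth KT) (nth2 ciT0 38) 1596 110 centT0 = true := by
  decide +kernel

theorem cent_t0 : ∀ g ∈ Spor.J1, g * t0G = t0G * g → ∃ c ∈ centT0, HasCode g c :=
  covK.cent_subset hasCode_t0 (KK.pow_mem b_mem_KK 5) mem_KK_iff exists_KK certT0_ok centT0_ok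

/-! ### the cover by `19 : 6` -/

def c19G : GL7 := wordG c19W
def dG : GL7 := wordG dW

theorem hasCode_c19 : HasCode c19G c19C := by
  have := hasCode_word c19W
  rwa [show wordC c19W = c19C by decide +kernel] at this
theorem hasCode_d : HasCode dG dC := by
  have := hasCode_word dW
  rwa [show wordC dW = dC by decide +kernel] at this

def HH : Subgroup GL7 := Subgroup.closure {c19G, dG}

theorem Hc1_ok : certB c19C (nth HT) kId (nth Hc1) kZero 114 1 = true := by decide +kernel
theorem Hc2_ok : certB dC (nth HT) kId (nth Hc2) kZero 114 1 = true := by decide +kernel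
theorem Htree_ok : treeB (nth Hc1) (nth Hc2) (nth Hpar) (nth Hgs) 114 = true := by decide +kernel
theorem Hdist_ok : distinctB HT = true := by decide +kernel

theorem card_HH : Nat.card HH = 114 :=
  card_closure_pair_eq hasCode_c19 hasCode_d (by norm_num) rfl Hc1_ok Hc2_ok Htree_ok Hdist_ok
    (by decide +kernel)

theorem mem_HH_iff (g : GL7) : g ∈ HH ↔ ∃ n < 114, HasCode g (nth HT n) :=
  mem_closure_pair_iff hasCode_c19 hasCode_d (by norm_num) rfl Hc1_ok Hc2_ok Htree_ok g

theorem exists_HH (j : ℕ) (hj : j < 114) : ∃ k ∈ HH, HasCode k (nth HT j) :=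
  exists_mem_of_tree hasCode_c19 hasCode_d rfl Hc1_ok Hc2_ok Htree_ok j hj

theorem certX19_ok :
    certB XC (nth2 T19 35) (nth HT) (nth2 ciX19 35) (nth2 ckX19 35) 1540 114 = true := by
  decide +kernel
theorem certY19_ok :
    certB YC (nth2 T19 35) (nth HT) (nth2 ciY19 35) (nth2 ckY19 35) 1540 114 = true := by
  decide +kernel

theorem cov19 : Cover HH (nth2 T19 35) 1540 :=
  ⟨closure_pair_subset hasCode_X hasCode_Y exists_HH (by norm_num) rfl certX19_ok certY19_ok,
    by rw [card_HH]⟩

theorem certC19_ok :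
    certB c19C (nth2 T19 35) (nth HT) (nth2 ciC19 35) (nth2 ckC19 35) 1540 114 = true := by
  decide +kernel
theorem cent19_ok : centB c19C (nth2 T19 35) (nth HT) (nth2 ciC19 35) 1540 114 cent19 = true := by
  decide +kernel

theorem cent_c19 : ∀ g ∈ Spor.J1, g * c19G = c19G * g → ∃ c ∈ cent19, HasCode g c :=
  cov19.cent_subset hasCode_c19 (Subgroup.subset_closure (Or.inl rfl)) mem_HH_iff exists_HH
    certC19_ok cent19_ok

/-! ### the cover by `2^3 : 7 : 3` -/

def zG : GL7 := wordG zW

theorem hasCode_z : HasCode zG zC := by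
  have := hasCode_word zW
  rwa [show wordC zW = zC by decide +kernel] at this

def GG : Subgroup GL7 := Subgroup.closure {Spor.jankoX, zG}

theorem Gc1_ok : certB XC (nth GT) kId (nth Gc1) kZero 168 1 = true := by decide +kernel
theorem Gc2_ok : certB zC (nth GT) kId (nth Gc2) kZero 168 1 = true := by decide +kernel
theorem Gtree_ok : treeB (nth Gc1) (nth Gc2) (nth Gpar) (nth Ggs) 168 = true := by decide +kernel
theorem Gdist_ok : distinctB GT = true := by decide +kernel

theorem card_GG : Nat.card GG = 168 :=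
  card_closure_pair_eq hasCode_X hasCode_z (by norm_num) rfl Gc1_ok Gc2_ok Gtree_ok Gdist_ok
    (by decide +kernel)

theorem mem_GG_iff (g : GL7) : g ∈ GG ↔ ∃ n < 168, HasCode g (nth GT n) :=
  mem_closure_pair_iff hasCode_X hasCode_z (by norm_num) rfl Gc1_ok Gc2_ok Gtree_ok g

theorem exists_GG (j : ℕ) (hj : j < 168) : ∃ k ∈ GG, HasCode k (nth GT j) :=
  exists_mem_of_tree hasCode_X hasCode_z rfl Gc1_ok Gc2_ok Gtree_ok j hj

theorem certX7_ok :
    certB XC (nth2 T7 55) (nth GT) (nth2 ciX7 55) (nth2 ckX7 55) 1045 168 = true := by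
  decide +kernel
theorem certY7_ok :
    certB YC (nth2 T7 55) (nth GT) (nth2 ciY7 55) (nth2 ckY7 55) 1045 168 = true := by
  decide +kernel

theorem cov7 : Cover GG (nth2 T7 55) 1045 :=
  ⟨closure_pair_subset hasCode_X hasCode_Y exists_GG (by norm_num) rfl certX7_ok certY7_ok,
    by rw [card_GG]⟩

theorem cent7_ok : centB XC (nth2 T7 55) (nth GT) (nth2 ciX7 55) 1045 168 cent7 = true := by
  decide +kernel

theorem cent_X : ∀ g ∈ Spor.J1, g * Spor.jankoX = Spor.jankoX * g → ∃ c ∈ cent7, HasCode g c :=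
  cov7.cent_subset hasCode_X (Subgroup.subset_closure (Or.inl rfl)) mem_GG_iff exists_GG
    certX7_ok cent7_ok

end Cfsg.Agent.Lib.Helper92.J1
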