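import Cfsg.Agent.Lib.Helper92.J1.MatCode
import Cfsg.Agent.Lib.Helper56.SchreierSims
import Cfsg.Agent.Lib.Helper92.CodeGroup

/-!
# Upper bounds for the order of a matrix group generated by two elements, from a certificate

`SS T N K` is the union of the "cosets" `T n * K`, `n < N`.  The Boolean `certB` checks that it is
closed under left multiplication by a generator.
-/

set_option autoImplicit false

namespace Cfsg.Agent.Lib.Helper92.J1

open Cfsg
open Cfsg.Agent.Lib.Helper27
open Cfsg.Agent.Lib.Helper92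
open scoped MatrixGroups

/-- the `n`-th entry of a list (kernel friendly; `0` outside). -/
def nth (l : List ℕ) : ℕ → ℕ :=
  List.rec (fun _ => 0) (fun a _ ih n => Nat.rec a (fun m _ => ih m) n) l

theorem nth_cons_zero (a : ℕ) (l : List ℕ) : nth (a :: l) 0 = a := rfl
theorem nth_cons_succ (a : ℕ) (l : List ℕ) (n : ℕ) : nth (a :: l) (n + 1) = nth l n := rfl

theorem nth_mem {l : List ℕ} {n : ℕ} (h : n < l.length) : nth l n ∈ l := by
  induction l generalizing n with
  | nil => exact absurd h (by simp)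
  | cons a l ih =>
    cases n with
    | zero => exact List.mem_cons_self
    | succ n =>
      rw [nth_cons_succ]
      exact List.mem_cons_of_mem _ (ih (by simpa using h))

theorem exists_nth_of_mem {l : List ℕ} {c : ℕ} (h : c ∈ l) : ∃ n < l.length, nth l n = c := by
  induction l with
  | nil => exact absurd h (by simp)
  | cons a l ih =>
    rcases List.mem_cons.1 h with rfl | h
    · exact ⟨0, by simp, rfl⟩
    · obtain ⟨n, hn, he⟩ := ih h
      exact ⟨n + 1, by simpa using hn, he⟩

/-- the `n`-th entry of a list of lists. -/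
def nthL (l : List (List ℕ)) : ℕ → List ℕ :=
  List.rec (fun _ => []) (fun a _ ih n => Nat.rec a (fun m _ => ih m) n) l

/-- random access in a long list cut in pieces of length `w` (short recursions only). -/
def nth2 (l : List (List ℕ)) (w n : ℕ) : ℕ := nth (nthL l (Nat.div n w)) (Nat.mod n w)

/-- the union of the sets `T n * K`. -/
def SS (T : ℕ → ℕ) (N : ℕ) (K : Subgroup GL7) : Set GL7 :=
  {g | ∃ n < N, ∃ k ∈ K, (g : Mat7) = matOf (T n) * (k : Mat7)}

theorem card_SS_le (T : ℕ → ℕ) (N : ℕ) (K : Subgroup GL7) :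
    (SS T N K).ncard ≤ N * Nat.card K := by
  classical
  have hch : ∀ g : SS T N K, ∃ p : Fin N × K, (g.1 : Mat7) = matOf (T p.1.1) * (p.2.1 : Mat7) := by
    rintro ⟨g, n, hn, k, hk, he⟩
    exact ⟨(⟨n, hn⟩, ⟨k, hk⟩), he⟩
  choose f hf using hch
  have hinj : Function.Injective f := by
    intro g g' h
    apply Subtype.ext
    apply Units.ext
    rw [hf g, hf g', h]
  have := Nat.card_le_card_of_injective f hinj
  rw [Nat.card_prod, Nat.card_fin] at this
  rwa [Nat.card_coe_set_eq] at this

/-- the certificate for a generator with code `sC`. -/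
def certB (sC : ℕ) (T KL ci ck : ℕ → ℕ) (N M : ℕ) : Bool :=
  allBelow (fun n => band (band (Nat.blt (ci n) N) (Nat.blt (ck n) M))
    (Nat.beq (mulM sC (T n)) (mulM (T (ci n)) (KL (ck n))))) N

theorem mul_mem_SS {s : GL7} {sC : ℕ} (hs : HasCode s sC) {K : Subgroup GL7}
    {T KL ci ck : ℕ → ℕ} {N M : ℕ} (hK : ∀ j < M, ∃ k ∈ K, HasCode k (KL j))
    (hc : certB sC T KL ci ck N M = true) {g : GL7} (hg : g ∈ SS T N K) : s * g ∈ SS T N K := by
  obtain ⟨n, hn, k, hk, he⟩ := hg
  unfold certB at hc
  rw [allBelow_iff] at hc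
  have h := hc n hn
  simp only [band_eq, Bool.and_eq_true, Nat.blt_eq, Nat.beq_eq] at h
  obtain ⟨⟨h1, h2⟩, h3⟩ := h
  obtain ⟨k', hk', hk'c⟩ := hK _ h2
  refine ⟨ci n, h1, k' * k, K.mul_mem hk' hk, ?_⟩
  rw [Units.val_mul, he, hs, ← mul_assoc, ← matOf_mulM, h3, matOf_mulM, Units.val_mul, hk'c,
    mul_assoc]

theorem closure_pair_subset {s1 s2 : GL7} {c1 c2 : ℕ} (h1 : HasCode s1 c1) (h2 : HasCode s2 c2)
    {K : Subgroup GL7} {T KL ci1 ck1 ci2 ck2 : ℕ → ℕ} {N M : ℕ}
    (hK : ∀ j < M, ∃ k ∈ K, HasCode k (KL j)) (hN : 0 < N) (hid : T 0 = idC)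
    (hc1 : certB c1 T KL ci1 ck1 N M = true) (hc2 : certB c2 T KL ci2 ck2 N M = true) :
    ∀ g ∈ Subgroup.closure ({s1, s2} : Set GL7), g ∈ SS T N K := by
  intro g hg
  have h1S : (1 : GL7) ∈ SS T N K := ⟨0, hN, 1, K.one_mem, by rw [hid, matOf_idC]; simp⟩
  have := Cfsg.Agent.Lib.Helper56.smul_mem_of_mem_closure (G := GL7) (X := GL7)
    (T := ({s1, s2} : Set GL7)) (S := SS T N K) (Set.toFinite _) (by
      rintro t (rfl | ht) q hq
      · exact mul_mem_SS h1 hK hc1 hq
      · rw [Set.mem_singleton_iff.1 ht]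
        exact mul_mem_SS h2 hK hc2 hq) hg h1S
  simpa using this

theorem card_closure_pair_le {s1 s2 : GL7} {c1 c2 : ℕ} (h1 : HasCode s1 c1) (h2 : HasCode s2 c2)
    {K : Subgroup GL7} {T KL ci1 ck1 ci2 ck2 : ℕ → ℕ} {N M : ℕ}
    (hK : ∀ j < M, ∃ k ∈ K, HasCode k (KL j)) (hN : 0 < N) (hid : T 0 = idC)
    (hc1 : certB c1 T KL ci1 ck1 N M = true) (hc2 : certB c2 T KL ci2 ck2 N M = true) :
    Nat.card (Subgroup.closure ({s1, s2} : Set GL7)) ≤ N * Nat.card K := by
  refine le_trans ?_ (card_SS_le T N K)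
  rw [← Nat.card_coe_set_eq]
  exact Nat.card_mono (Set.toFinite _) (closure_pair_subset h1 h2 hK hN hid hc1 hc2)

/-! ### words in the two generators -/

/-- the element of a word (`true` is `jankoX`, `false` is `jankoY`). -/
def wordG (w : List Bool) : GL7 :=
  List.rec 1 (fun s _ ih => (Bool.rec Spor.jankoY Spor.jankoX s) * ih) w

/-- the code of a word. -/
def wordC (w : List Bool) : ℕ :=
  List.rec idC (fun s _ ih => mulM (Bool.rec YC XC s) ih) w

theorem hasCode_word (w : List Bool) : HasCode (wordG w) (wordC w) := by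
  induction w with
  | nil => exact HasCode.one
  | cons s w ih =>
    cases s
    · exact hasCode_Y.mul ih
    · exact hasCode_X.mul ih

theorem X_mem : Spor.jankoX ∈ Spor.J1 := Subgroup.subset_closure (Or.inl rfl)
theorem Y_mem : Spor.jankoY ∈ Spor.J1 := Subgroup.subset_closure (Or.inr rfl)

theorem wordG_mem (w : List Bool) : wordG w ∈ Spor.J1 := by
  induction w with
  | nil => exact Spor.J1.one_mem
  | cons s w ih =>
    cases s
    · exact Spor.J1.mul_mem Y_mem ih
    · exact Spor.J1.mul_mem X_mem ih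

theorem canonB_wordC (w : List Bool) : canonB (wordC w) = true := by
  cases w with
  | nil => exact canonB_idC
  | cons s w => exact canonB_mulM _ _

/-- the order of an element from its code. -/
theorem orderOf_of_code {g : GL7} {c p : ℕ} [Fact p.Prime] (hg : HasCode g c)
    (h1 : powM c p = idC) (h2 : mulM c idC ≠ idC) : orderOf g = p := by
  apply orderOf_eq_prime
  · exact ((hg.pow p).ext (h1 ▸ HasCode.one) : g ^ p = 1)
  · rintro rfl
    apply h2
    exact (hg.mul HasCode.one).code_eq (by simpa using HasCode.one) (canonB_mulM _ _) canonB_idC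


/-! ### exact element lists of two-generator subgroups -/

/-- the spanning tree test: every index `m > 0` is reached from a smaller index. -/
def treeB (ci1 ci2 par gsel : ℕ → ℕ) (N : ℕ) : Bool :=
  allBelow (fun m => Nat.rec true (fun _ _ => band (Nat.blt (par m) m)
    (Nat.beq (Nat.rec (ci1 (par m)) (fun _ _ => ci2 (par m)) (gsel m)) m)) m) N

/-- constant functions used for the certificates with trivial `K`. -/
def kId (_ : ℕ) : ℕ := idC
def kZero (_ : ℕ) : ℕ := 0

theorem exists_mem_of_tree {s1 s2 : GL7} {c1 c2 : ℕ} (h1 : HasCode s1 c1) (h2 : HasCode s2 c2)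
    {T ci1 ci2 par gsel : ℕ → ℕ} {N : ℕ} (hid : T 0 = idC)
    (hc1 : certB c1 T kId ci1 kZero N 1 = true) (hc2 : certB c2 T kId ci2 kZero N 1 = true)
    (htree : treeB ci1 ci2 par gsel N = true) :
    ∀ m < N, ∃ g ∈ Subgroup.closure ({s1, s2} : Set GL7), (g : Mat7) = matOf (T m) := by
  unfold treeB at htree
  unfold certB at hc1 hc2
  rw [allBelow_iff] at htree hc1 hc2
  intro m
  induction m using Nat.strong_induction_on with
  | _ m ih =>
    intro hm
    cases m with
    | zero => exact ⟨1, Subgroup.one_mem _, by rw [hid, matOf_idC]; rfl⟩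
    | succ m =>
      have h := htree (m + 1) hm
      have h' : band (Nat.blt (par (m + 1)) (m + 1))
        (Nat.beq (Nat.rec (ci1 (par (m + 1))) (fun _ _ => ci2 (par (m + 1)))
          (gsel (m + 1))) (m + 1)) = true := h
      rw [band_eq, Bool.and_eq_true, Nat.blt_eq, Nat.beq_eq] at h'
      obtain ⟨hp, he⟩ := h'
      obtain ⟨g, hg, hgc⟩ := ih _ hp (lt_trans hp hm)
      have key : ∀ (s : GL7) (c : ℕ) (ci : ℕ → ℕ), HasCode s c →
          s ∈ Subgroup.closure ({s1, s2} : Set GL7) →
          (∀ n < N, band (band (Nat.blt (ci n) N) (Nat.blt (kZero n) 1))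
            (Nat.beq (mulM c (T n)) (mulM (T (ci n)) (kId (kZero n)))) = true) →
          ci (par (m + 1)) = m + 1 →
          ∃ g ∈ Subgroup.closure ({s1, s2} : Set GL7), (g : Mat7) = matOf (T (m + 1)) := by
        intro s c ci hs hsm hc hci
        have h3 := hc _ (lt_trans hp hm)
        simp only [band_eq, Bool.and_eq_true, Nat.beq_eq] at h3
        have h4 := h3.2
        rw [hci] at h4
        refine ⟨s * g, Subgroup.mul_mem _ hsm hg, ?_⟩
        have h5 : kId (kZero (par (m + 1))) = idC := rfl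
        rw [Units.val_mul, hs, hgc, ← matOf_mulM, h4, h5, matOf_mulM, matOf_idC, mul_one]
      cases hgs : gsel (m + 1) with
      | zero =>
        rw [hgs] at he
        exact key s1 c1 ci1 h1 (Subgroup.subset_closure (Or.inl rfl)) hc1 he
      | succ k =>
        rw [hgs] at he
        exact key s2 c2 ci2 h2 (Subgroup.subset_closure (Or.inr rfl)) hc2 he

/-- the elements of a two-generator subgroup are exactly those with a code in the list. -/
theorem mem_closure_pair_iff {s1 s2 : GL7} {c1 c2 : ℕ} (h1 : HasCode s1 c1) (h2 : HasCode s2 c2)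
    {T ci1 ci2 par gsel : ℕ → ℕ} {N : ℕ} (hN : 0 < N) (hid : T 0 = idC)
    (hc1 : certB c1 T kId ci1 kZero N 1 = true) (hc2 : certB c2 T kId ci2 kZero N 1 = true)
    (htree : treeB ci1 ci2 par gsel N = true) (g : GL7) :
    g ∈ Subgroup.closure ({s1, s2} : Set GL7) ↔ ∃ n < N, HasCode g (T n) := by
  constructor
  · intro hg
    obtain ⟨n, hn, k, hk, he⟩ := closure_pair_subset (K := ⊥) (KL := kId) (M := 1) h1 h2
      (fun j _ => ⟨1, Subgroup.one_mem _, HasCode.one⟩) hN hid hc1 hc2 g hg
    rw [Subgroup.mem_bot.1 hk] at he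
    exact ⟨n, hn, by unfold HasCode; rw [he]; simp⟩
  · rintro ⟨n, hn, hg⟩
    obtain ⟨g', hg', he⟩ := exists_mem_of_tree h1 h2 hid hc1 hc2 htree n hn
    have : g = g' := Units.ext (hg.trans he.symm)
    rw [this]; exact hg'

/-- all entries canonical and pairwise different. -/
def distinctB (T : List ℕ) : Bool :=
  List.rec true (fun a l ih => band (band (canonB a) (bnot (memL a l))) ih) T

theorem distinctB_iff {T : List ℕ} :
    distinctB T = true ↔ (∀ c ∈ T, canonB c = true) ∧ T.Nodup := by
  induction T with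
  | nil => simp [distinctB]
  | cons a l ih =>
    have h : distinctB (a :: l) = band (band (canonB a) (bnot (memL a l))) (distinctB l) := rfl
    rw [h, band_eq, band_eq, Bool.and_eq_true, Bool.and_eq_true, ih, bnot_eq_true,
      List.nodup_cons, List.forall_mem_cons, ← Bool.not_eq_true, memL_iff]
    tauto

theorem nth_inj_of_nodup {T : List ℕ} (h : T.Nodup) {i j : ℕ} (hi : i < T.length)
    (hj : j < T.length) (he : nth T i = nth T j) : i = j := by
  induction T generalizing i j with
  | nil => exact absurd hi (by simp)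
  | cons a l ih =>
    rw [List.nodup_cons] at h
    cases i with
    | zero =>
      cases j with
      | zero => rfl
      | succ j =>
        exfalso
        rw [nth_cons_zero, nth_cons_succ] at he
        exact h.1 (he ▸ nth_mem (by simpa using hj))
    | succ i =>
      cases j with
      | zero =>
        exfalso
        rw [nth_cons_zero, nth_cons_succ] at he
        exact h.1 (he ▸ nth_mem (by simpa using hi))
      | succ j =>
        rw [nth_cons_succ, nth_cons_succ] at he
        rw [ih h.2 (by simpa using hi) (by simpa using hj) he]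

theorem card_closure_pair_eq {s1 s2 : GL7} {c1 c2 : ℕ} (h1 : HasCode s1 c1) (h2 : HasCode s2 c2)
    {T : List ℕ} {ci1 ci2 par gsel : ℕ → ℕ} {N : ℕ} (hN : 0 < N) (hid : nth T 0 = idC)
    (hc1 : certB c1 (nth T) kId ci1 kZero N 1 = true)
    (hc2 : certB c2 (nth T) kId ci2 kZero N 1 = true)
    (htree : treeB ci1 ci2 par gsel N = true) (hd : distinctB T = true) (hlen : T.length = N) :
    Nat.card (Subgroup.closure ({s1, s2} : Set GL7)) = N := by
  classical
  obtain ⟨hcan, hnd⟩ := distinctB_iff.1 hd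
  have hmem := mem_closure_pair_iff h1 h2 hN hid hc1 hc2 htree
  have hch : ∀ n : Fin N, ∃ g : Subgroup.closure ({s1, s2} : Set GL7), HasCode g.1 (nth T n.1) := by
    intro n
    obtain ⟨g, hg, he⟩ := exists_mem_of_tree h1 h2 hid hc1 hc2 htree n.1 n.2
    exact ⟨⟨g, hg⟩, he⟩
  choose f hf using hch
  have hbij : Function.Bijective f := by
    constructor
    · intro i j hij
      apply Fin.ext
      apply nth_inj_of_nodup hnd (hlen ▸ i.2) (hlen ▸ j.2)
      have := hf j
      rw [← hij] at this
      exact (hf i).code_eq this (hcan _ (nth_mem (hlen ▸ i.2))) (hcan _ (nth_mem (hlen ▸ j.2)))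
    · intro g
      obtain ⟨n, hn, hg⟩ := (hmem g.1).1 g.2
      exact ⟨⟨n, hn⟩, Subtype.ext ((hf ⟨n, hn⟩).ext hg)⟩
  rw [← Nat.card_congr (Equiv.ofBijective f hbij), Nat.card_fin]

end Cfsg.Agent.Lib.Helper92.J1
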