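import Cfsg.Agent.Lib.Helper92.J1.Simple

/-!
# Exact coset covers of `J1` and centralisers

`Cover H T N` : `J1` is covered by the `N` sets `T n * H`, and `N * |H| = |J1|`, so that the
decomposition `g = T n * k` is unique.  An element `s ∈ H` with a certificate `ci` for its action on
the cosets has its centraliser in the cosets fixed by `s`; `centB` lists it.
-/

set_option autoImplicit false

namespace Cfsg.Agent.Lib.Helper92.J1

open Cfsg
open Cfsg.Agent.Lib.Helper27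
open Cfsg.Agent.Lib.Helper92
open scoped MatrixGroups

structure Cover (H : Subgroup GL7) (T : ℕ → ℕ) (N : ℕ) : Prop where
  sub : ∀ g ∈ Spor.J1, g ∈ SS T N H
  card : N * Nat.card H = 175560

theorem Cover.unique {H : Subgroup GL7} {T : ℕ → ℕ} {N : ℕ} (cov : Cover H T N) {g : GL7}
    {n m : ℕ} (hn : n < N) (hm : m < N) {k k' : GL7} (hk : k ∈ H) (hk' : k' ∈ H)
    (h1 : (g : Mat7) = matOf (T n) * (k : Mat7)) (h2 : (g : Mat7) = matOf (T m) * (k' : Mat7)) :
    n = m := by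
  classical
  have hch : ∀ g : SS T N H, ∃ p : Fin N × H, (g.1 : Mat7) = matOf (T p.1.1) * (p.2.1 : Mat7) := by
    rintro ⟨g, n, hn, k, hk, he⟩
    exact ⟨(⟨n, hn⟩, ⟨k, hk⟩), he⟩
  choose f hf using hch
  have hinj : Function.Injective f := by
    intro g g' h
    apply Subtype.ext
    apply Units.ext
    rw [hf g, hf g', h]
  have hcard : Nat.card (Fin N × H) ≤ Nat.card (SS T N H) := by
    rw [Nat.card_prod, Nat.card_fin, cov.card, ← card_J1]
    exact Nat.card_mono (Set.toFinite _) cov.sub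
  have hbij := hinj.bijective_of_nat_card_le hcard
  obtain ⟨g1, hg1⟩ := hbij.2 (⟨n, hn⟩, ⟨k, hk⟩)
  obtain ⟨g2, hg2⟩ := hbij.2 (⟨m, hm⟩, ⟨k', hk'⟩)
  have e1 : g1.1 = g := by
    apply Units.ext
    rw [hf g1, hg1, h1]
  have e2 : g2.1 = g := by
    apply Units.ext
    rw [hf g2, hg2, h2]
  have e3 : g1 = g2 := Subtype.ext (e1.trans e2.symm)
  rw [e3, hg2] at hg1
  exact (congrArg (fun p : Fin N × H => p.1.1) hg1).symm

theorem Cover.fixed {H : Subgroup GL7} {T : ℕ → ℕ} {N : ℕ} (cov : Cover H T N) {s : GL7} {sC : ℕ}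
    (hs : HasCode s sC) {HL ci ck : ℕ → ℕ} {M : ℕ} (hHL : ∀ j < M, ∃ k ∈ H, HasCode k (HL j))
    (hc : certB sC T HL ci ck N M = true) {g : GL7} {n : ℕ} (hn : n < N) {k : GL7} (hk : k ∈ H)
    (hg : (g : Mat7) = matOf (T n) * (k : Mat7)) (hconj : g⁻¹ * s * g ∈ H) : ci n = n := by
  unfold certB at hc
  rw [allBelow_iff] at hc
  have h := hc n hn
  simp only [band_eq, Bool.and_eq_true, Nat.blt_eq, Nat.beq_eq] at h
  obtain ⟨⟨h1, h2⟩, h3⟩ := h
  obtain ⟨k', hk', hk'c⟩ := hHL _ h2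
  have e1 : ((s * g : GL7) : Mat7) = matOf (T (ci n)) * ((k' * k : GL7) : Mat7) := by
    rw [Units.val_mul, hg, hs, ← mul_assoc, ← matOf_mulM, h3, matOf_mulM, Units.val_mul, hk'c,
      mul_assoc]
  have e2 : ((s * g : GL7) : Mat7) = matOf (T n) * ((k * (g⁻¹ * s * g) : GL7) : Mat7) := by
    have : s * g = g * (g⁻¹ * s * g) := by group
    rw [this, Units.val_mul, hg, Units.val_mul k, mul_assoc]
  exact cov.unique h1 hn (H.mul_mem hk' hk) (H.mul_mem hk hconj) e1 e2

/-- the Boolean listing the centraliser of the element with code `sC`. -/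
def centB (sC : ℕ) (T HL ci : ℕ → ℕ) (N M : ℕ) (CL : List ℕ) : Bool :=
  allBelow (fun n => bor (bnot (Nat.beq (ci n) n)) (allBelow (fun j =>
    force (mulM (T n) (HL j)) fun c =>
      bor (bnot (Nat.beq (mulM c sC) (mulM sC c))) (memL c CL)) M)) N

theorem Cover.cent_subset {H : Subgroup GL7} {T : ℕ → ℕ} {N : ℕ} (cov : Cover H T N) {s : GL7}
    {sC : ℕ} (hs : HasCode s sC) (hsH : s ∈ H) {HL ci ck : ℕ → ℕ} {M : ℕ}
    (hHL : ∀ g, g ∈ H ↔ ∃ j < M, HasCode g (HL j))
    (hHL' : ∀ j < M, ∃ k ∈ H, HasCode k (HL j))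
    (hc : certB sC T HL ci ck N M = true) {CL : List ℕ}
    (hchk : centB sC T HL ci N M CL = true) :
    ∀ g ∈ Spor.J1, g * s = s * g → ∃ c ∈ CL, HasCode g c := by
  intro g hg hcomm
  obtain ⟨n, hn, k, hk, he⟩ := cov.sub g hg
  have hfix : ci n = n := cov.fixed hs hHL' hc hn hk he (by
    have : g⁻¹ * s * g = s := by rw [mul_assoc, ← hcomm]; group
    rw [this]; exact hsH)
  obtain ⟨j, hj, hkc⟩ := (hHL k).1 hk
  unfold centB at hchk
  rw [allBelow_iff] at hchk
  have h1 := hchk n hn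
  rw [bor_eq, Bool.or_eq_true, bnot_eq_true, allBelow_iff] at h1
  rcases h1 with h1 | h1
  · rw [hfix] at h1
    simp at h1
  · have h2 := h1 j hj
    rw [force_eq, bor_eq, Bool.or_eq_true, bnot_eq_true, memL_iff] at h2
    have hgc : HasCode g (mulM (T n) (HL j)) := by
      unfold HasCode
      rw [he, hkc, matOf_mulM]
    rcases h2 with h2 | h2
    · exfalso
      have e1 := (hgc.mul hs).code_eq (hcomm ▸ (hs.mul hgc)) (canonB_mulM _ _) (canonB_mulM _ _)
      rw [e1] at h2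
      simp at h2
    · exact ⟨_, h2, hgc⟩

end Cfsg.Agent.Lib.Helper92.J1
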