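import Cfsg.Agent.Lib.Helper92.J1.Spectrum
import Cfsg.Agent.Lib.Helper92.J1.InvCentData
import Cfsg.Agent.Lib.Helper41.Dickson.Simple60

/-!
# The centraliser of an involution of `J1` is `2 × A5`
-/

set_option autoImplicit false

namespace Cfsg.Agent.Lib.Helper92.J1

open Cfsg
open Cfsg.Agent.Lib.Helper27
open Cfsg.Agent.Lib.Helper92
open scoped MatrixGroups

def uG : GL7 := wordG uW
def vG : GL7 := wordG vW

theorem hasCode_u : HasCode uG uCd := by
  have := hasCode_word uW
  rwa [show wordC uW = uCd by decide +kernel] at this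
theorem hasCode_v : HasCode vG vCd := by
  have := hasCode_word vW
  rwa [show wordC vW = vCd by decide +kernel] at this

/-- the subgroup `A5` of the centraliser of `t0`. -/
def AA : Subgroup GL7 := Subgroup.closure {uG, vG}

theorem Ac1_ok : certB uCd (nth AT) kId (nth Ac1) kZero 60 1 = true := by decide +kernel
theorem Ac2_ok : certB vCd (nth AT) kId (nth Ac2) kZero 60 1 = true := by decide +kernel
theorem Atree_ok : treeB (nth Ac1) (nth Ac2) (nth Apar) (nth Ags) 60 = true := by decide +kernel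
theorem Adist_ok : distinctB AT = true := by decide +kernel

theorem card_AA : Nat.card AA = 60 :=
  card_closure_pair_eq hasCode_u hasCode_v (by norm_num) rfl Ac1_ok Ac2_ok Atree_ok Adist_ok
    (by decide +kernel)

theorem mem_AA_iff (g : GL7) : g ∈ AA ↔ ∃ n < 60, HasCode g (nth AT n) :=
  mem_closure_pair_iff hasCode_u hasCode_v (by norm_num) rfl Ac1_ok Ac2_ok Atree_ok g

theorem mem_AA_code {g : GL7} (hg : g ∈ AA) : ∃ c ∈ AT, HasCode g c := by
  obtain ⟨n, hn, h⟩ := (mem_AA_iff g).1 hg
  exact ⟨_, nth_mem (by simpa [show AT.length = 60 by decide +kernel] using hn), h⟩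

theorem AA_le : AA ≤ Spor.J1 := by
  unfold AA
  rw [Subgroup.closure_le]
  rintro g (rfl | hg)
  · exact wordG_mem _
  · rw [Set.mem_singleton_iff.1 hg]; exact wordG_mem _

instance : Finite AA := Nat.finite_of_card_ne_zero (by rw [card_AA]; norm_num)

theorem exp_AA : allList (fun c => bor (Nat.beq (powM c 2) idC) (bor (Nat.beq (powM c 3) idC)
    (Nat.beq (powM c 5) idC))) AT = true := by decide +kernel

theorem pow_eq_one_of_code' {g : GL7} {c n : ℕ} (hg : HasCode g c) (h : powM c n = idC) :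
    g ^ n = 1 := by
  have := hg.pow n
  rw [h] at this
  exact this.eq_one

theorem order_AA (a : AA) : orderOf a = 1 ∨ orderOf a = 2 ∨ orderOf a = 3 ∨ orderOf a = 5 := by
  obtain ⟨c, hc, hac⟩ := mem_AA_code a.2
  have h1 := (allList_iff _ _).1 exp_AA _ hc
  rw [bor_eq, Bool.or_eq_true, bor_eq, Bool.or_eq_true, Nat.beq_eq, Nat.beq_eq, Nat.beq_eq] at h1
  rw [← Subgroup.orderOf_coe]
  rcases h1 with h1 | h1 | h1
  · have := orderOf_dvd_of_pow_eq_one (pow_eq_one_of_code' hac h1)
    rcases (Nat.dvd_prime (by norm_num)).1 this with h | h <;> simp [h]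
  · have := orderOf_dvd_of_pow_eq_one (pow_eq_one_of_code' hac h1)
    rcases (Nat.dvd_prime (by norm_num)).1 this with h | h <;> simp [h]
  · have := orderOf_dvd_of_pow_eq_one (pow_eq_one_of_code' hac h1)
    rcases (Nat.dvd_prime (by norm_num)).1 this with h | h <;> simp [h]

/-- `s` does not normalise the cyclic group generated by `c`. -/
def nnB (s c : ℕ) : Bool :=
  bnot (memL (mulM s c) [mulM idC s, mulM (powM c 1) s, mulM (powM c 2) s, mulM (powM c 3) s,
    mulM (powM c 4) s])

theorem nn_AA : allList (fun c => bor (Nat.beq c idC) (bor (nnB uCd c) (nnB vCd c))) AT = true := by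
  decide +kernel

theorem not_normal_of_nnB {s g : GL7} {sC c : ℕ} (hs : HasCode s sC) (hg : HasCode g c)
    (ho : orderOf g ≤ 5) (ho' : 0 < orderOf g) (h : nnB sC c = true) :
    s * g * s⁻¹ ∉ Subgroup.zpowers g := by
  intro hmem
  obtain ⟨k, hk⟩ := hmem
  have hk' : g ^ k = s * g * s⁻¹ := hk
  have hpos : (0 : ℤ) < orderOf g := by exact_mod_cast ho'
  obtain ⟨m, hm⟩ := Int.eq_ofNat_of_zero_le (Int.emod_nonneg k hpos.ne')
  have hm5 : m < 5 := by
    have := Int.emod_lt_of_pos k hpos
    rw [hm] at this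
    have h2 : m < orderOf g := by exact_mod_cast this
    omega
  have e1 : g ^ m = s * g * s⁻¹ := by
    rw [← hk', ← zpow_mod_orderOf g k, hm, zpow_natCast]
  have e2 : s * g = g ^ m * s := by rw [e1]; group
  have e3 : mulM sC c = mulM (powM c m) sC :=
    (hs.mul hg).code_eq (e2 ▸ ((hg.pow m).mul hs)) (canonB_mulM _ _) (canonB_mulM _ _)
  unfold nnB at h
  rw [bnot_eq_true] at h
  have h3 : memL (mulM sC c) [mulM idC sC, mulM (powM c 1) sC, mulM (powM c 2) sC,
      mulM (powM c 3) sC, mulM (powM c 4) sC] = true := by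
    rw [memL_iff, e3]
    interval_cases m
    · exact List.mem_cons_self
    · simp
    · simp
    · simp
    · simp
  rw [h3] at h
  simp at h

theorem u_mem_AA : uG ∈ AA := Subgroup.subset_closure (Or.inl rfl)
theorem v_mem_AA : vG ∈ AA := Subgroup.subset_closure (Or.inr rfl)

theorem AA_not_normal (c : AA) (hc : c ≠ 1) : ¬ (Subgroup.zpowers c).Normal := by
  intro hN
  obtain ⟨cc, hcc, hac⟩ := mem_AA_code c.2
  have h1 := (allList_iff _ _).1 nn_AA _ hcc
  rw [bor_eq, Bool.or_eq_true, bor_eq, Bool.or_eq_true, Nat.beq_eq] at h1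
  have ho : orderOf c.1 ≤ 5 := by
    rw [Subgroup.orderOf_coe]
    rcases order_AA c with h | h | h | h <;> omega
  have ho' : 0 < orderOf c.1 := by
    rw [Subgroup.orderOf_coe]
    rcases order_AA c with h | h | h | h <;> omega
  have key : ∀ s : AA, s.1 * c.1 * s.1⁻¹ ∈ Subgroup.zpowers c.1 := by
    intro s
    obtain ⟨k, hk⟩ := hN.conj_mem c (Subgroup.mem_zpowers c) s
    refine ⟨k, ?_⟩
    have := congrArg Subtype.val hk
    simpa using this
  rcases h1 with h1 | h1 | h1
  · apply hc
    apply Subtype.ext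
    rw [h1] at hac
    exact hac.eq_one
  · exact not_normal_of_nnB hasCode_u hac ho ho' h1 (key ⟨uG, u_mem_AA⟩)
  · exact not_normal_of_nnB hasCode_v hac ho ho' h1 (key ⟨vG, v_mem_AA⟩)

theorem AA_equiv : Nonempty (AA ≃* alternatingGroup (Fin 5)) :=
  Cfsg.Agent.Lib.Helper41.Dickson.alt_five_of_card_sixty card_AA order_AA AA_not_normal

/-- a set of matrices all of whose elements have a code in a list. -/
theorem card_le_of_codes {S : Set GL7} {L : List ℕ} (h : ∀ g ∈ S, ∃ c ∈ L, HasCode g c) :
    Nat.card S ≤ L.length := by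
  have h' : ∀ g : S, ∃ n : Fin L.length, HasCode g.1 (nth L n.1) := by
    rintro ⟨g, hg⟩
    obtain ⟨c, hc, hgc⟩ := h g hg
    obtain ⟨n, hn, rfl⟩ := exists_nth_of_mem hc
    exact ⟨⟨n, hn⟩, hgc⟩
  choose f hf using h'
  have hinj : Function.Injective f := by
    intro g g' hgg
    apply Subtype.ext
    have := hf g'
    rw [← hgg] at this
    exact (hf g).ext this
  simpa using Nat.card_le_card_of_injective f hinj

/-- the centraliser of `t0`. -/
abbrev CC : Subgroup JJ := Subgroup.centralizer {t0J}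

theorem mem_CC {g : JJ} : g ∈ CC ↔ g.1 * t0G = t0G * g.1 := by
  rw [Subgroup.mem_centralizer_singleton_iff]
  constructor
  · intro h
    have := congrArg Subtype.val h
    rwa [Subgroup.coe_mul, Subgroup.coe_mul, t0J_val] at this
  · intro h
    apply Subtype.ext
    rw [Subgroup.coe_mul, Subgroup.coe_mul, t0J_val]
    exact h

theorem card_CC_le : Nat.card CC ≤ 120 := by
  have h1 : Nat.card CC = Nat.card ((fun g : JJ => g.1) '' (CC : Set JJ)) :=
    (Nat.card_image_of_injective Subtype.val_injective _).symm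
  have h2 : ∀ g ∈ ((fun g : JJ => g.1) '' (CC : Set JJ)), ∃ c ∈ centT0, HasCode g c := by
    rintro _ ⟨g, hg, rfl⟩
    exact cent_t0 g.1 g.2 (mem_CC.1 hg)
  rw [h1]
  exact (card_le_of_codes h2).trans (by decide +kernel)

/-- `A5` inside `J1`. -/
def AJ : Subgroup JJ := AA.subgroupOf Spor.J1

theorem AJ_equiv : Nonempty (AJ ≃* alternatingGroup (Fin 5)) := by
  obtain ⟨e⟩ := AA_equiv
  exact ⟨(Subgroup.subgroupOfEquivOfLe AA_le).trans e⟩

theorem card_AJ : Nat.card AJ = 60 := by
  rw [← card_AA]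
  exact Nat.card_congr (Subgroup.subgroupOfEquivOfLe AA_le).toEquiv

theorem comm_u : uG * t0G = t0G * uG :=
  (hasCode_u.mul hasCode_t0).ext (by
    rw [show mulM uCd codeT0 = mulM codeT0 uCd by decide +kernel]
    exact hasCode_t0.mul hasCode_u)
theorem comm_v : vG * t0G = t0G * vG :=
  (hasCode_v.mul hasCode_t0).ext (by
    rw [show mulM vCd codeT0 = mulM codeT0 vCd by decide +kernel]
    exact hasCode_t0.mul hasCode_v)

theorem AA_comm {g : GL7} (hg : g ∈ AA) : g * t0G = t0G * g := by
  have : AA ≤ Subgroup.centralizer {t0G} := by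
    unfold AA
    rw [Subgroup.closure_le]
    rintro g (rfl | hg)
    · exact Subgroup.mem_centralizer_singleton_iff.2 comm_u
    · rw [Set.mem_singleton_iff.1 hg]
      exact Subgroup.mem_centralizer_singleton_iff.2 comm_v
  exact Subgroup.mem_centralizer_singleton_iff.1 (this hg)

theorem AJ_le : AJ ≤ CC := by
  intro g hg
  exact mem_CC.2 (AA_comm (Subgroup.mem_subgroupOf.1 hg))

theorem t0_not_mem : t0G ∉ AA := by
  intro h
  obtain ⟨c, hc, hcc⟩ := mem_AA_code h
  have h1 : allList canonB AT = true := by decide +kernel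
  have h2 := hcc.code_eq hasCode_t0 ((allList_iff _ _).1 h1 _ hc) (by decide +kernel)
  rw [h2, ← memL_iff] at hc
  revert hc
  decide +kernel

theorem CC_equiv : Nonempty (CC ≃* Multiplicative (ZMod 2) × alternatingGroup (Fin 5)) := by
  let Z : Subgroup JJ := Subgroup.zpowers t0J
  have hZc : Nat.card Z = 2 := by rw [Nat.card_zpowers, orderOf_t0J]
  have hZle : Z ≤ CC := by
    rw [Subgroup.zpowers_le]
    exact Subgroup.mem_centralizer_singleton_iff.2 rfl
  have hcomm : ∀ (z : Z) (a : AJ), Commute (Z.subtype z) (AJ.subtype a) := by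
    rintro ⟨z, hz⟩ ⟨a, ha⟩
    obtain ⟨k, rfl⟩ := hz
    have : Commute t0J a := (Subgroup.mem_centralizer_singleton_iff.1 (AJ_le ha)).symm
    exact this.zpow_left k
  have hdisj : Disjoint Z AJ := by
    rw [Subgroup.disjoint_def]
    intro x hxZ hxA
    by_contra hx1
    have hx : x = t0J := by
      obtain ⟨k, rfl⟩ := hxZ
      rcases Int.even_or_odd' k with ⟨m, rfl | rfl⟩
      · exfalso
        apply hx1
        show t0J ^ (2 * m) = 1
        rw [zpow_mul, zpow_ofNat, ← orderOf_t0J, pow_orderOf_eq_one, one_zpow]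
      · show t0J ^ (2 * m + 1) = t0J
        rw [zpow_add, zpow_mul, zpow_ofNat, ← orderOf_t0J, pow_orderOf_eq_one, one_zpow, one_mul,
          zpow_one]
    rw [hx] at hxA
    have h := Subgroup.mem_subgroupOf.1 hxA
    rw [t0J_val] at h
    exact t0_not_mem h
  have hinj : Function.Injective (MonoidHom.noncommCoprod Z.subtype AJ.subtype hcomm) := by
    rw [MonoidHom.noncommCoprod_injective]
    refine ⟨Z.subtype_injective, AJ.subtype_injective, ?_⟩
    rw [Subgroup.range_subtype, Subgroup.range_subtype]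
    exact hdisj
  have hle : (MonoidHom.noncommCoprod Z.subtype AJ.subtype hcomm).range ≤ CC := by
    rw [MonoidHom.noncommCoprod_range, Subgroup.range_subtype, Subgroup.range_subtype]
    exact sup_le hZle AJ_le
  let e : Z × AJ ≃* (MonoidHom.noncommCoprod Z.subtype AJ.subtype hcomm).range :=
    MonoidHom.ofInjective hinj
  have hcard : Nat.card (MonoidHom.noncommCoprod Z.subtype AJ.subtype hcomm).range = 120 := by
    rw [← Nat.card_congr e.toEquiv, Nat.card_prod, hZc, card_AJ]
  have heq : (MonoidHom.noncommCoprod Z.subtype AJ.subtype hcomm).range = CC :=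
    Subgroup.eq_of_le_of_card_ge hle (by rw [hcard]; exact card_CC_le)
  obtain ⟨eA⟩ := AJ_equiv
  have eZ : Z ≃* Multiplicative (ZMod 2) :=
    mulEquivOfPrimeCardEq (p := 2) hZc (by simp)
  exact ⟨((MulEquiv.subgroupCongr heq).symm.trans e.symm).trans (MulEquiv.prodCongr eZ eA)⟩

end Cfsg.Agent.Lib.Helper92.J1
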