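import Cfsg.Agent.Lib.Helper92.M24Search
import Cfsg.Prelude.Def_Spor_J1

/-!
# A kernel engine for `7 × 7` matrices over `ZMod 11`

A matrix is coded by a number with 49 fields of 5 bits (row major).  `mulM` is the product of codes,
`matOf` the matrix of a code; codes produced by `mulM` are canonical, so that equality of matrices is
equality of numbers.
-/

set_option autoImplicit false

namespace Cfsg.Agent.Lib.Helper92.J1

open Cfsg
open Cfsg.Agent.Lib.Helper27
open Cfsg.Agent.Lib.Helper92
open scoped MatrixGroups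

abbrev Mat7 := Matrix (Fin 7) (Fin 7) (ZMod 11)
abbrev GL7 := GL (Fin 7) (ZMod 11)

/-- the matrix of a code. -/
def matOf (c : ℕ) : Mat7 := fun i j => ((ent c (7 * i.1 + j.1) : ℕ) : ZMod 11)

/-- row (starting at field `r`) times column `c`. -/
def rowcol (a b r c : ℕ) : ℕ :=
  Nat.mod (Nat.add (Nat.add (Nat.add (Nat.add (Nat.add (Nat.add
    (Nat.mul (ent a r) (ent b c))
    (Nat.mul (ent a (Nat.add r 1)) (ent b (Nat.add c 7))))
    (Nat.mul (ent a (Nat.add r 2)) (ent b (Nat.add c 14))))
    (Nat.mul (ent a (Nat.add r 3)) (ent b (Nat.add c 21))))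
    (Nat.mul (ent a (Nat.add r 4)) (ent b (Nat.add c 28))))
    (Nat.mul (ent a (Nat.add r 5)) (ent b (Nat.add c 35))))
    (Nat.mul (ent a (Nat.add r 6)) (ent b (Nat.add c 42)))) 11

/-- the product of two codes. -/
def mulM (a b : ℕ) : ℕ := codeOf (fun t => rowcol a b (Nat.mul 7 (Nat.div t 7)) (Nat.mod t 7)) 49

theorem rowcol_lt (a b r c : ℕ) : rowcol a b r c < 11 := Nat.mod_lt _ (by norm_num)

theorem ent_mulM (a b : ℕ) {t : ℕ} (ht : t < 49) :
    ent (mulM a b) t = rowcol a b (7 * (t / 7)) (t % 7) :=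
  ent_codeOf _ (fun _ => lt_trans (rowcol_lt _ _ _ _) (by norm_num)) ht

theorem matOf_mulM (a b : ℕ) : matOf (mulM a b) = matOf a * matOf b := by
  ext i j
  have ht : 7 * i.1 + j.1 < 49 := by have := i.2; have := j.2; omega
  have h1 : (7 * i.1 + j.1) / 7 = i.1 := by have := j.2; omega
  have h2 : (7 * i.1 + j.1) % 7 = j.1 := by have := j.2; omega
  rw [Matrix.mul_apply, Fin.sum_univ_seven]
  unfold matOf
  rw [ent_mulM a b ht, h1, h2]
  show ((((((((ent a (7 * i.1) * ent b j.1 + ent a (7 * i.1 + 1) * ent b (j.1 + 7)) +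
    ent a (7 * i.1 + 2) * ent b (j.1 + 14)) + ent a (7 * i.1 + 3) * ent b (j.1 + 21)) +
    ent a (7 * i.1 + 4) * ent b (j.1 + 28)) + ent a (7 * i.1 + 5) * ent b (j.1 + 35)) +
    ent a (7 * i.1 + 6) * ent b (j.1 + 42)) % 11 : ℕ) : ZMod 11) = _
  rw [ZMod.natCast_mod]
  push_cast
  simp only [Fin.val_zero, Fin.val_one, Fin.val_two, mul_zero, add_zero, zero_add, mul_one]
  have e3 : ((3 : Fin 7) : ℕ) = 3 := rfl
  have e4 : ((4 : Fin 7) : ℕ) = 4 := rfl
  have e5 : ((5 : Fin 7) : ℕ) = 5 := rfl
  have e6 : ((6 : Fin 7) : ℕ) = 6 := rfl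
  rw [e3, e4, e5, e6]
  norm_num [add_comm]


/-! ### canonical codes -/

/-- canonical codes: 49 fields with values below 11. -/
def canonB (c : ℕ) : Bool :=
  band (Nat.blt c (2 ^ 245)) (allBelow (fun t => Nat.blt (ent c t) 11) 49)

theorem canonB_iff {c : ℕ} : canonB c = true ↔ c < 2 ^ 245 ∧ ∀ t < 49, ent c t < 11 := by
  unfold canonB
  rw [band_eq, Bool.and_eq_true, allBelow_iff]
  simp only [Nat.blt_eq]

theorem canonB_mulM (a b : ℕ) : canonB (mulM a b) = true := by
  rw [canonB_iff]
  constructor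
  · unfold mulM
    rw [codeOf_eq _ (fun _ => lt_trans (rowcol_lt _ _ _ _) (by norm_num))]
    exact packW_lt 5 _ (fun _ => lt_trans (rowcol_lt _ _ _ _) (by norm_num)) 49
  · intro t ht
    rw [ent_mulM a b ht]
    exact rowcol_lt _ _ _ _

theorem code_ext49 {a b : ℕ} (ha : a < 2 ^ 245) (hb : b < 2 ^ 245)
    (h : ∀ i, i < 49 → ent a i = ent b i) : a = b := by
  apply Nat.eq_of_testBit_eq
  intro j
  by_cases hj : j < 245
  · have h1 := h (j / 5) (by omega)
    have h2 := congrArg (fun x => Nat.testBit x (j % 5)) h1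
    simp only [ent_eq, Nat.testBit_and, Nat.testBit_shiftRight] at h2
    have h3 : (31 : ℕ).testBit (j % 5) = true := by
      rw [show (31 : ℕ) = 2 ^ 5 - 1 from rfl, Nat.testBit_two_pow_sub_one]
      simp; omega
    rw [h3, Bool.and_true, Bool.and_true, Nat.div_add_mod] at h2
    exact h2
  · rw [Nat.testBit_lt_two_pow (lt_of_lt_of_le ha (Nat.pow_le_pow_right (by norm_num) (by omega))),
      Nat.testBit_lt_two_pow (lt_of_lt_of_le hb (Nat.pow_le_pow_right (by norm_num) (by omega)))]

theorem matOf_inj {a b : ℕ} (ha : canonB a = true) (hb : canonB b = true)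
    (h : matOf a = matOf b) : a = b := by
  rw [canonB_iff] at ha hb
  apply code_ext49 ha.1 hb.1
  intro t ht
  have h1 := congrFun (congrFun h ⟨t / 7, by omega⟩) ⟨t % 7, by omega⟩
  unfold matOf at h1
  simp only [Nat.div_add_mod] at h1
  have h2 := congrArg ZMod.val h1
  rwa [ZMod.val_natCast_of_lt (ha.2 t ht), ZMod.val_natCast_of_lt (hb.2 t ht)] at h2

/-- the code of the identity. -/
def idC : ℕ := 1766847064779991267627557952520097810151971258949098676121831439027142657

theorem matOf_idC : matOf idC = 1 := by decide +kernel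

theorem canonB_idC : canonB idC = true := by decide +kernel

/-- powers. -/
def powM (c : ℕ) (n : ℕ) : ℕ := Nat.rec idC (fun _ ih => mulM ih c) n

theorem matOf_powM (c n : ℕ) : matOf (powM c n) = matOf c ^ n := by
  induction n with
  | zero => exact matOf_idC
  | succ n ih =>
    show matOf (mulM (powM c n) c) = _
    rw [matOf_mulM, ih, pow_succ]

theorem canonB_powM (c n : ℕ) : canonB (powM c n) = true := by
  cases n with
  | zero => exact canonB_idC
  | succ n => exact canonB_mulM _ _

/-! ### codes of elements of `GL₇(11)` -/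

/-- `c` is a code of `g`. -/
def HasCode (g : GL7) (c : ℕ) : Prop := (g : Mat7) = matOf c

theorem HasCode.mul {g h : GL7} {a b : ℕ} (hg : HasCode g a) (hh : HasCode h b) :
    HasCode (g * h) (mulM a b) := by
  unfold HasCode at *
  rw [Units.val_mul, hg, hh, matOf_mulM]

theorem HasCode.one : HasCode 1 idC := by
  unfold HasCode
  rw [Units.val_one, matOf_idC]

theorem HasCode.pow {g : GL7} {a : ℕ} (hg : HasCode g a) (n : ℕ) : HasCode (g ^ n) (powM a n) := by
  unfold HasCode at *
  rw [Units.val_pow_eq_pow_val, hg, matOf_powM]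

theorem HasCode.ext {g h : GL7} {a : ℕ} (hg : HasCode g a) (hh : HasCode h a) : g = h :=
  Units.ext (hg.trans hh.symm)

theorem HasCode.code_eq {g : GL7} {a b : ℕ} (ha : HasCode g a) (hb : HasCode g b)
    (hca : canonB a = true) (hcb : canonB b = true) : a = b :=
  matOf_inj hca hcb (ha.symm.trans hb)

theorem HasCode.eq_one {g : GL7} (hg : HasCode g idC) : g = 1 := hg.ext HasCode.one

def XC : ℕ := 1696926574737540499024706600940946091334086841640787470853341216
def YC : ℕ := 1934283661612278732108757897096185370725774763485735288412513855963736136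

theorem hasCode_X : HasCode Spor.jankoX XC := by
  show jankoMatrixX = matOf XC
  decide +kernel

theorem hasCode_Y : HasCode Spor.jankoY YC := by
  show jankoMatrixY = matOf YC
  decide +kernel


end Cfsg.Agent.Lib.Helper92.J1
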