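import Cfsg.Agent.Lib.Helper7.Stem2

/-!
# Central extensions of `2^3 : 7`

In a central extension with kernel of exponent 2 of a group containing `2^3 : 7`, the lifts of the
elements of `2^3` commute.
-/

set_option autoImplicit false

namespace Cfsg.Agent.Lib.Helper92.J1

universe u v

open Subgroup
open scoped commutatorElement

variable {Γ : Type u} {G : Type v} [Group Γ] [Group G]

theorem comm_conj (x a b : Γ) : ⁅x * a * x⁻¹, x * b * x⁻¹⁆ = x * ⁅a, b⁆ * x⁻¹ := by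
  simp only [commutatorElement_def]; group

theorem comm_conj_central {x a b : Γ} (h : ⁅a, b⁆ ∈ center Γ) :
    ⁅x * a * x⁻¹, x * b * x⁻¹⁆ = ⁅a, b⁆ := by
  rw [comm_conj, (mem_center_iff.1 h x), mul_assoc, mul_inv_cancel, mul_one]

theorem lifts_commute_core (σ : Γ →* G) (hc : σ.ker ≤ center Γ) (h2 : ∀ ζ ∈ σ.ker, ζ ^ 2 = 1)
    (x A B C D E : Γ) (hB : B = x * A * x⁻¹) (hBC : C = x * B * x⁻¹) (hCD : D = x * C * x⁻¹)
    (hDE : E = x * D * x⁻¹) (e6 : x ^ 3 * E * (x ^ 3)⁻¹ = A) (hD3 : D = x ^ 3 * A * (x ^ 3)⁻¹)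
    (kp : ⁅A, B⁆ ∈ σ.ker) (kq : ⁅A, C⁆ ∈ σ.ker) (sD : σ D = σ (A * B)) :
    ⁅A, B⁆ = 1 ∧ ⁅A, C⁆ = 1 ∧ ⁅B, C⁆ = 1 := by
  have sE : σ E = σ (B * C) := by
    rw [hDE, hBC, map_mul, map_mul, sD, hB]; simp
  have e1 : ⁅A, D⁆ = ⁅A, B⁆ := by
    rw [Cfsg.Agent.Lib.Helper66.commutatorElement_eq_of_central σ hc rfl sD]
    have : ⁅A, A * B⁆ = A * ⁅A, B⁆ * A⁻¹ := by simp only [commutatorElement_def]; group
    rw [this, (mem_center_iff.1 (hc kp) A), mul_assoc, mul_inv_cancel, mul_one]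
  have e2 : ⁅B, D⁆ = ⁅B, A⁆ := by
    rw [Cfsg.Agent.Lib.Helper66.commutatorElement_eq_of_central σ hc rfl sD]
    simp only [commutatorElement_def]; group
  have e3 : ⁅B, D⁆ = ⁅A, C⁆ := by
    rw [hCD, hB]; exact comm_conj_central (hc kq)
  have e4 : ⁅B, A⁆ = ⁅A, B⁆⁻¹ := (commutatorElement_inv A B).symm
  have hinv : ∀ ζ ∈ σ.ker, ζ⁻¹ = ζ := by
    intro ζ hζ
    have := h2 ζ hζ
    rw [pow_two] at this
    exact inv_eq_of_mul_eq_one_left this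
  have hqp : ⁅A, C⁆ = ⁅A, B⁆ := by rw [← e3, e2, e4, hinv _ kp]
  have e5 : ⁅A, E⁆ = 1 := by
    rw [Cfsg.Agent.Lib.Helper66.commutatorElement_eq_of_central σ hc rfl sE]
    have : ⁅A, B * C⁆ = ⁅A, B⁆ * (B * ⁅A, C⁆ * B⁻¹) := by
      simp only [commutatorElement_def]; group
    rw [this, (mem_center_iff.1 (hc kq) B), mul_assoc, mul_inv_cancel, mul_one, hqp, ← pow_two]
    exact h2 _ kp
  have e7 : ⁅D, A⁆ = 1 := by
    have h := comm_conj (x ^ 3) A E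
    rw [e6, e5, mul_one, mul_inv_cancel, ← hD3] at h
    exact h
  have hp : ⁅A, B⁆ = 1 := by
    rw [← e1, ← commutatorElement_inv, e7, inv_one]
  refine ⟨hp, by rw [hqp, hp], ?_⟩
  have := comm_conj_central (x := x) (hc kp)
  rw [← hB, ← hBC] at this
  rw [this, hp]

/-- lifts of the elements of `2^3` in `2^3 : 7` commute. -/
theorem lifts_commute (σ : Γ →* G) (hc : σ.ker ≤ center Γ) (h2 : ∀ ζ ∈ σ.ker, ζ ^ 2 = 1)
    {x T : Γ} (hx7 : σ x ^ 7 = 1)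
    (h01 : σ T * (σ x * σ T * (σ x)⁻¹) = (σ x * σ T * (σ x)⁻¹) * σ T)
    (h02 : σ T * (σ x ^ 2 * σ T * (σ x ^ 2)⁻¹) = (σ x ^ 2 * σ T * (σ x ^ 2)⁻¹) * σ T)
    (hrel : σ x ^ 3 * σ T * (σ x ^ 3)⁻¹ = σ T * (σ x * σ T * (σ x)⁻¹)) :
    ⁅T, x * T * x⁻¹⁆ = 1 ∧ ⁅T, x ^ 2 * T * (x ^ 2)⁻¹⁆ = 1 ∧
      ⁅x * T * x⁻¹, x ^ 2 * T * (x ^ 2)⁻¹⁆ = 1 := by
  have hx7' : x ^ 7 ∈ center Γ := hc (by rw [MonoidHom.mem_ker, map_pow, hx7])
  apply lifts_commute_core σ hc h2 x T (x * T * x⁻¹) (x ^ 2 * T * (x ^ 2)⁻¹)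
    (x ^ 3 * T * (x ^ 3)⁻¹) (x ^ 4 * T * (x ^ 4)⁻¹) rfl
    (by simp only [pow_succ, pow_zero, one_mul, mul_inv_rev, mul_assoc])
    (by simp only [pow_succ, pow_zero, one_mul, mul_inv_rev, mul_assoc])
    (by simp only [pow_succ, pow_zero, one_mul, mul_inv_rev, mul_assoc]) _ rfl
  · rw [MonoidHom.mem_ker, map_commutatorElement, commutatorElement_eq_one_iff_mul_comm]
    simpa using h01
  · rw [MonoidHom.mem_ker, map_commutatorElement, commutatorElement_eq_one_iff_mul_comm]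
    simpa using h02
  · simpa using hrel
  · have : x ^ 3 * (x ^ 4 * T * (x ^ 4)⁻¹) * (x ^ 3)⁻¹ = x ^ 7 * T * (x ^ 7)⁻¹ := by
      simp only [pow_succ, pow_zero, one_mul, mul_inv_rev, mul_assoc]
    rw [this, ← (mem_center_iff.1 hx7' T), mul_assoc, mul_inv_cancel, mul_one]

end Cfsg.Agent.Lib.Helper92.J1
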