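import Cfsg.Agent.Lib.Helper92.J1.Simple
import Cfsg.Agent.Lib.Helper92.J1.StemSeven

/-!
# The Schur multiplier of `J1` is trivial
-/

set_option autoImplicit false

namespace Cfsg.Agent.Lib.Helper92.J1

open Cfsg
open Cfsg.Agent.Lib.Helper27
open Cfsg.Agent.Lib.Helper92
open scoped MatrixGroups
open scoped commutatorElement

theorem JJ_ext {g h : JJ} {c d : ℕ} (hg : HasCode g.1 c) (hh : HasCode h.1 d) (hcd : c = d) :
    g = h := Subtype.ext (hg.ext (hcd ▸ hh))

def tJ : JJ := wJ t1W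

theorem hasCode_tJ : HasCode tJ.1 t1C := hasCode_t1
theorem hasCode_xJ : HasCode xJ.1 XC := hasCode_X

def XiC : ℕ := powM XC 6

theorem hasCode_xJ_inv : HasCode (xJ⁻¹ : JJ).1 XiC :=
  hasCode_X.inv (by decide +kernel)

theorem HasCode.mulJ {g h : JJ} {a b : ℕ} (hg : HasCode g.1 a) (hh : HasCode h.1 b) :
    HasCode (g * h).1 (mulM a b) := HasCode.mul hg hh

theorem HasCode.powJ {g : JJ} {a : ℕ} (hg : HasCode g.1 a) (n : ℕ) :
    HasCode (g ^ n).1 (powM a n) := HasCode.pow hg n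

def e1J : JJ := xJ * tJ * xJ⁻¹
def e2J : JJ := xJ ^ 2 * tJ * (xJ ^ 2)⁻¹
def e3J : JJ := xJ ^ 3 * tJ * (xJ ^ 3)⁻¹

def e1C : ℕ := mulM (mulM XC t1C) XiC
def e2C : ℕ := mulM (mulM (powM XC 2) t1C) (powM XiC 2)
def e3C : ℕ := mulM (mulM (powM XC 3) t1C) (powM XiC 3)

theorem hasCode_e1 : HasCode e1J.1 e1C := (hasCode_xJ.mulJ hasCode_tJ).mulJ hasCode_xJ_inv
theorem hasCode_e2 : HasCode e2J.1 e2C := by
  unfold e2J
  rw [← inv_pow]
  exact ((hasCode_xJ.powJ 2).mulJ hasCode_tJ).mulJ (hasCode_xJ_inv.powJ 2)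
theorem hasCode_e3 : HasCode e3J.1 e3C := by
  unfold e3J
  rw [← inv_pow]
  exact ((hasCode_xJ.powJ 3).mulJ hasCode_tJ).mulJ (hasCode_xJ_inv.powJ 3)

theorem comm01 : tJ * e1J = e1J * tJ :=
  JJ_ext (hasCode_tJ.mulJ hasCode_e1) (hasCode_e1.mulJ hasCode_tJ) (by decide +kernel)
theorem comm02 : tJ * e2J = e2J * tJ :=
  JJ_ext (hasCode_tJ.mulJ hasCode_e2) (hasCode_e2.mulJ hasCode_tJ) (by decide +kernel)
theorem comm12 : e1J * e2J = e2J * e1J :=
  JJ_ext (hasCode_e1.mulJ hasCode_e2) (hasCode_e2.mulJ hasCode_e1) (by decide +kernel)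
theorem rel3 : e3J = tJ * e1J :=
  JJ_ext hasCode_e3 (hasCode_tJ.mulJ hasCode_e1) (by decide +kernel)
theorem sq0 : tJ * tJ = 1 :=
  JJ_ext (hasCode_tJ.mulJ hasCode_tJ) HasCode.one (by decide +kernel)
theorem sq1 : e1J * e1J = 1 :=
  JJ_ext (hasCode_e1.mulJ hasCode_e1) HasCode.one (by decide +kernel)
theorem sq2 : e2J * e2J = 1 :=
  JJ_ext (hasCode_e2.mulJ hasCode_e2) HasCode.one (by decide +kernel)

/-- the Sylow 2-subgroup. -/
def PJ : Subgroup JJ := Subgroup.closure {tJ, e1J, e2J}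

theorem PJ_comm : ∀ x ∈ ({tJ, e1J, e2J} : Set JJ), ∀ y ∈ ({tJ, e1J, e2J} : Set JJ),
    x * y = y * x := by
  rintro x (rfl | rfl | rfl) y (rfl | rfl | rfl)
  · rfl
  · exact comm01
  · exact comm02
  · exact comm01.symm
  · rfl
  · exact comm12
  · exact comm02.symm
  · exact comm12.symm
  · rfl

theorem PJ_sq {g : JJ} (hg : g ∈ PJ) : g * g = 1 := by
  unfold PJ at hg
  induction hg using Subgroup.closure_induction with
  | mem x hx =>
    rcases hx with rfl | rfl | rfl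
    · exact sq0
    · exact sq1
    · exact sq2
  | one => simp
  | mul x y hx hy ihx ihy =>
    have := Cfsg.Agent.Lib.Helper7.commute_of_mem_closure PJ_comm hx hy
    calc x * y * (x * y) = x * (y * x) * y := by group
      _ = x * (x * y) * y := by rw [this]
      _ = (x * x) * (y * y) := by group
      _ = 1 := by rw [ihx, ihy, one_mul]
  | inv x hx ih =>
    have : x⁻¹ = x := inv_eq_of_mul_eq_one_left ih
    rw [this, ih]

theorem length_le_card_of_codes (P : Subgroup JJ) {L : List ℕ}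
    (hL : ∀ c ∈ L, ∃ g ∈ P, HasCode g.1 c) (hd : distinctB L = true) : L.length ≤ Nat.card P := by
  obtain ⟨hcan, hnd⟩ := distinctB_iff.1 hd
  have hch : ∀ n : Fin L.length, ∃ g : P, HasCode g.1.1 (nth L n.1) := by
    intro n
    obtain ⟨g, hg, he⟩ := hL _ (nth_mem n.2)
    exact ⟨⟨g, hg⟩, he⟩
  choose f hf using hch
  have hinj : Function.Injective f := by
    intro i j hij
    apply Fin.ext
    apply nth_inj_of_nodup hnd i.2 j.2
    have := hf j
    rw [← hij] at this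
    exact (hf i).code_eq this (hcan _ (nth_mem i.2)) (hcan _ (nth_mem j.2))
  simpa using Nat.card_le_card_of_injective f hinj

theorem five_le_card_PJ : 5 ≤ Nat.card PJ := by
  have m0 : tJ ∈ PJ := Subgroup.subset_closure (by simp)
  have m1 : e1J ∈ PJ := Subgroup.subset_closure (by simp)
  have m2 : e2J ∈ PJ := Subgroup.subset_closure (by simp)
  have h := length_le_card_of_codes PJ (L := [idC, t1C, e1C, e2C, mulM t1C e1C]) (by
    intro c hc
    simp only [List.mem_cons, List.not_mem_nil, or_false] at hc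
    rcases hc with rfl | rfl | rfl | rfl | rfl
    · exact ⟨1, PJ.one_mem, HasCode.one⟩
    · exact ⟨tJ, m0, hasCode_tJ⟩
    · exact ⟨e1J, m1, hasCode_e1⟩
    · exact ⟨e2J, m2, hasCode_e2⟩
    · exact ⟨tJ * e1J, PJ.mul_mem m0 m1, hasCode_tJ.mulJ hasCode_e1⟩) (by decide +kernel)
  exact h

theorem index_PJ : PJ.index = 21945 := by
  have hp : IsPGroup 2 PJ := by
    intro g
    refine ⟨1, ?_⟩
    apply Subtype.ext
    rw [pow_one, pow_two]
    exact PJ_sq g.2
  obtain ⟨n, hn⟩ := IsPGroup.iff_card.1 hp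
  have h1 := PJ.card_mul_index
  rw [card_JJ, hn] at h1
  have h5 := five_le_card_PJ
  rw [hn] at h5
  have hn3 : n ≤ 3 := by
    by_contra hcon
    have : 2 ^ 4 ∣ 2 ^ n := pow_dvd_pow 2 (by omega)
    have h2 : 2 ^ 4 ∣ 175560 := by
      rw [← h1]
      exact this.trans (Dvd.intro _ rfl)
    omega
  interval_cases n <;> omega

theorem not_sq_dvd {p : ℕ} (hp : p.Prime) (h2 : p ≠ 2) : ¬ p ^ 2 ∣ 175560 := by
  intro h
  have c2 : Nat.Coprime (p ^ 2) 8 := by
    have : Nat.Coprime (p ^ 2) (2 ^ 3) :=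
      Nat.Coprime.pow _ _ ((Nat.coprime_primes hp Nat.prime_two).2 h2)
    simpa using this
  have h1 : p ^ 2 ∣ 21945 := c2.dvd_of_dvd_mul_left (by simpa using h)
  have hsq : Squarefree 21945 := by
    rw [Nat.squarefree_iff_minSqFac]
    decide +kernel
  rw [pow_two] at h1
  exact hp.one_lt.ne' (Nat.isUnit_iff.1 (hsq p h1))

theorem multiplier_J1 : Cfsg.HasCyclicSchurMultiplier JJ 1 := by
  apply Cfsg.Agent.Lib.Helper7.trivial_multiplier_of_exponent
  intro p hp Γ _ _ σ hσ hexp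
  by_cases h2 : p = 2
  · subst h2
    obtain ⟨x, hx⟩ := hσ.1 xJ
    obtain ⟨T, hT⟩ := hσ.1 tJ
    have hx7 : σ x ^ 7 = 1 := by
      rw [hx]
      have := pow_orderOf_eq_one xJ
      rwa [orderOf_xJ] at this
    obtain ⟨c1, c2, c3⟩ := lifts_commute σ hσ.2.1 hexp (x := x) (T := T) hx7
      (by rw [hx, hT]; exact comm01) (by rw [hx, hT]; exact comm02) (by rw [hx, hT]; exact rel3)
    rw [commutatorElement_eq_one_iff_mul_comm] at c1 c2 c3
    have himg : σ '' {T, x * T * x⁻¹, x ^ 2 * T * (x ^ 2)⁻¹} = {tJ, e1J, e2J} := by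
      rw [Set.image_insert_eq, Set.image_insert_eq, Set.image_singleton]
      simp only [map_mul, map_inv, map_pow, hx, hT]
      rfl
    apply Cfsg.Agent.Lib.Helper7.ker_eq_bot_of_comm_lifts hσ hexp
      (S := {T, x * T * x⁻¹, x ^ 2 * T * (x ^ 2)⁻¹})
    · rintro a (rfl | rfl | rfl) b (rfl | rfl | rfl)
      · rfl
      · exact c1
      · exact c2
      · exact c1.symm
      · rfl
      · exact c3
      · exact c2.symm
      · exact c3.symm
      · rfl
    · rw [himg]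
      have : (Subgroup.closure {tJ, e1J, e2J}).index = 21945 := index_PJ
      rw [this]
      norm_num
  · exact Cfsg.Agent.Lib.Helper7.ker_eq_bot_of_not_sq_dvd hσ hp hexp
      (by rw [card_JJ]; exact not_sq_dvd hp h2)

end Cfsg.Agent.Lib.Helper92.J1
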