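import Cfsg.Agent.Lib.Helper92.J1.OrderData

/-!
# The order of `J1` is `175560`
-/

set_option autoImplicit false

namespace Cfsg.Agent.Lib.Helper92.J1

open Cfsg
open Cfsg.Agent.Lib.Helper27
open Cfsg.Agent.Lib.Helper92
open scoped MatrixGroups

def aG : GL7 := wordG aW
def bG : GL7 := wordG bW
def t1G : GL7 := wordG t1W

theorem hasCode_a : HasCode aG aC := by
  have := hasCode_word aW
  rwa [show wordC aW = aC by decide +kernel] at this
theorem hasCode_b : HasCode bG bC := by
  have := hasCode_word bW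
  rwa [show wordC bW = bC by decide +kernel] at this
theorem hasCode_t1 : HasCode t1G t1C := by
  have := hasCode_word t1W
  rwa [show wordC t1W = t1C by decide +kernel] at this

theorem a_mem : aG ∈ Spor.J1 := wordG_mem _
theorem b_mem : bG ∈ Spor.J1 := wordG_mem _
theorem t1_mem : t1G ∈ Spor.J1 := wordG_mem _

/-- the normaliser `11 : 10` of an element of order 11. -/
def KK : Subgroup GL7 := Subgroup.closure {aG, bG}

/-- the subgroup `2^3 : 7`. -/
def FF : Subgroup GL7 := Subgroup.closure {t1G, Spor.jankoX}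

theorem Kc1_ok : certB aC (nth KT) kId (nth Kc1) kZero 110 1 = true := by decide +kernel
theorem Kc2_ok : certB bC (nth KT) kId (nth Kc2) kZero 110 1 = true := by decide +kernel
theorem Ktree_ok : treeB (nth Kc1) (nth Kc2) (nth Kpar) (nth Kgs) 110 = true := by decide +kernel
theorem Kdist_ok : distinctB KT = true := by decide +kernel

theorem Fc1_ok : certB t1C (nth FT) kId (nth Fc1) kZero 56 1 = true := by decide +kernel
theorem Fc2_ok : certB XC (nth FT) kId (nth Fc2) kZero 56 1 = true := by decide +kernel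
theorem Ftree_ok : treeB (nth Fc1) (nth Fc2) (nth Fpar) (nth Fgs) 56 = true := by decide +kernel
theorem Fdist_ok : distinctB FT = true := by decide +kernel

theorem card_KK : Nat.card KK = 110 :=
  card_closure_pair_eq hasCode_a hasCode_b (by norm_num) rfl Kc1_ok Kc2_ok Ktree_ok Kdist_ok
    (by decide +kernel)

theorem card_FF : Nat.card FF = 56 :=
  card_closure_pair_eq hasCode_t1 hasCode_X (by norm_num) rfl Fc1_ok Fc2_ok Ftree_ok Fdist_ok
    (by decide +kernel)

theorem mem_KK_iff (g : GL7) : g ∈ KK ↔ ∃ n < 110, HasCode g (nth KT n) :=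
  mem_closure_pair_iff hasCode_a hasCode_b (by norm_num) rfl Kc1_ok Kc2_ok Ktree_ok g

theorem mem_FF_iff (g : GL7) : g ∈ FF ↔ ∃ n < 56, HasCode g (nth FT n) :=
  mem_closure_pair_iff hasCode_t1 hasCode_X (by norm_num) rfl Fc1_ok Fc2_ok Ftree_ok g

theorem KK_le : KK ≤ Spor.J1 := by
  unfold KK
  rw [Subgroup.closure_le]
  rintro g (rfl | hg)
  · exact a_mem
  · rw [Set.mem_singleton_iff.1 hg]; exact b_mem

theorem FF_le : FF ≤ Spor.J1 := by
  unfold FF
  rw [Subgroup.closure_le]
  rintro g (rfl | hg)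
  · exact t1_mem
  · rw [Set.mem_singleton_iff.1 hg]; exact X_mem

theorem exists_KK (j : ℕ) (hj : j < 110) : ∃ k ∈ KK, HasCode k (nth KT j) :=
  exists_mem_of_tree hasCode_a hasCode_b rfl Kc1_ok Kc2_ok Ktree_ok j hj

theorem certX_ok : certB XC (nth2 TT 38) (nth KT) (nth2 ciX 38) (nth2 ckX 38) 1596 110 = true := by decide +kernel
theorem certY_ok : certB YC (nth2 TT 38) (nth KT) (nth2 ciY 38) (nth2 ckY 38) 1596 110 = true := by decide +kernel

theorem J1_subset : ∀ g ∈ Spor.J1, g ∈ SS (nth2 TT 38) 1596 KK :=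
  closure_pair_subset hasCode_X hasCode_Y exists_KK (by norm_num) rfl certX_ok certY_ok

theorem card_J1_le : Nat.card Spor.J1 ≤ 175560 := by
  have := card_closure_pair_le hasCode_X hasCode_Y exists_KK (by norm_num) rfl certX_ok certY_ok
  rw [card_KK] at this
  exact this

instance fact19 : Fact (Nat.Prime 19) := ⟨by norm_num⟩
instance fact3 : Fact (Nat.Prime 3) := ⟨by norm_num⟩

def c19W : List Bool := [true, true, true, false]
def c3W : List Bool := [true, true, true, false, true, false, true, false]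

theorem orderOf_c19 : orderOf (wordG c19W) = 19 :=
  orderOf_of_code (hasCode_word _) (by decide +kernel) (by decide +kernel)
theorem orderOf_c3 : orderOf (wordG c3W) = 3 :=
  orderOf_of_code (hasCode_word _) (by decide +kernel) (by decide +kernel)

theorem card_J1 : Nat.card Spor.J1 = 175560 := by
  have h1 : 110 ∣ Nat.card Spor.J1 := card_KK ▸ Subgroup.card_dvd_of_le KK_le
  have h2 : 56 ∣ Nat.card Spor.J1 := card_FF ▸ Subgroup.card_dvd_of_le FF_le
  have h3 : 19 ∣ Nat.card Spor.J1 := by
    have := Subgroup.card_dvd_of_le (Subgroup.zpowers_le.2 (wordG_mem c19W))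
    rwa [Nat.card_zpowers, orderOf_c19] at this
  have h4 : 3 ∣ Nat.card Spor.J1 := by
    have := Subgroup.card_dvd_of_le (Subgroup.zpowers_le.2 (wordG_mem c3W))
    rwa [Nat.card_zpowers, orderOf_c3] at this
  have h5 : 175560 ∣ Nat.card Spor.J1 := by
    have e1 : Nat.lcm 110 56 ∣ Nat.card Spor.J1 := Nat.lcm_dvd h1 h2
    have e2 : Nat.lcm (Nat.lcm 110 56) 19 ∣ Nat.card Spor.J1 := Nat.lcm_dvd e1 h3
    have e3 : Nat.lcm (Nat.lcm (Nat.lcm 110 56) 19) 3 ∣ Nat.card Spor.J1 := Nat.lcm_dvd e2 h4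
    exact e3
  exact le_antisymm card_J1_le (Nat.le_of_dvd Nat.card_pos h5)

end Cfsg.Agent.Lib.Helper92.J1
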