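import Cfsg.Agent.Lib.Helper92.J1.InvCent
import Cfsg.Agent.Lib.Helper92.J1.Mult
import Cfsg.Agent.Lib.Helper27.WHS

/-!
# Every automorphism of `J1` is inner
-/

set_option autoImplicit false

namespace Cfsg.Agent.Lib.Helper92.J1

open Cfsg
open Cfsg.Agent.Lib.Helper27
open Cfsg.Agent.Lib.Helper92
open scoped MatrixGroups

def aJ : JJ := wJ aW
def bJ : JJ := wJ bW
def vJ : JJ := wJ vW

theorem hasCode_aJ : HasCode aJ.1 aC := hasCode_a
theorem hasCode_bJ : HasCode bJ.1 bC := hasCode_b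
theorem hasCode_vJ : HasCode vJ.1 vCd := hasCode_v

theorem aJ_val : (aJ : GL7) = aG := rfl
theorem vJ_val : (vJ : GL7) = vG := rfl

theorem orderOf_aJ' : orderOf aJ = 11 := orderOf_aJ

theorem t0J_eq : t0J = bJ ^ 5 := rfl

/-- `b ^ j` conjugates `a ^ m` to `a`. -/
theorem conjA_ok : allBelow (fun m => bor (Nat.beq m 0) (anyBelow (fun j =>
    Nat.beq (mulM (powM bC j) (powM aC m)) (mulM aC (powM bC j))) 10)) 11 = true := by
  decide +kernel

theorem zpow_eq_pow_of_orderOf {G : Type*} [Group G] {g : G} {n : ℕ} (hn : 0 < n)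
    (hg : orderOf g = n) (i : ℤ) : ∃ m < n, g ^ i = g ^ m := by
  have hpos : (0 : ℤ) < n := by exact_mod_cast hn
  obtain ⟨m, hm⟩ := Int.eq_ofNat_of_zero_le (Int.emod_nonneg i hpos.ne')
  refine ⟨m, ?_, ?_⟩
  · have := Int.emod_lt_of_pos i hpos
    rw [hm] at this
    exact_mod_cast this
  · rw [← zpow_mod_orderOf g i, hg, hm, zpow_natCast]

theorem fix_a (α : MulAut JJ) : ∃ g : JJ, g * α aJ * g⁻¹ = aJ := by
  have ho : orderOf (α aJ) = 11 := by rw [MulEquiv.orderOf_eq, orderOf_aJ']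
  obtain ⟨k, i, hk⟩ := exists_conj_pow_of_orderOf (p := 11) (by rw [card_JJ]; norm_num)
    (by rw [card_JJ]; norm_num) ho orderOf_aJ'
  obtain ⟨m, hm, hi⟩ := zpow_eq_pow_of_orderOf (by norm_num) orderOf_aJ' i
  rw [hi] at hk
  have h1 := (allBelow_iff _ _).1 conjA_ok m hm
  rw [bor_eq, Bool.or_eq_true, Nat.beq_eq, anyBelow_iff] at h1
  rcases h1 with h1 | ⟨j, _, h1⟩
  · exfalso
    rw [h1, pow_zero, mul_one, mul_inv_cancel] at hk
    rw [hk, orderOf_one] at ho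
    omega
  · rw [Nat.beq_eq] at h1
    have e : bJ ^ j * aJ ^ m = aJ * bJ ^ j :=
      JJ_ext ((hasCode_bJ.powJ j).mulJ (hasCode_aJ.powJ m)) (hasCode_aJ.mulJ (hasCode_bJ.powJ j)) h1
    refine ⟨bJ ^ j * k⁻¹, ?_⟩
    rw [hk]
    calc bJ ^ j * k⁻¹ * (k * aJ ^ m * k⁻¹) * (bJ ^ j * k⁻¹)⁻¹
        = (bJ ^ j * aJ ^ m) * (bJ ^ j)⁻¹ := by group
      _ = aJ := by rw [e]; group

theorem relAB : bJ * aJ = aJ ^ 8 * bJ :=
  JJ_ext (hasCode_bJ.mulJ hasCode_aJ) ((hasCode_aJ.powJ 8).mulJ hasCode_bJ) (by decide +kernel)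

theorem centA_pow : allList (fun c => anyBelow (fun i => Nat.beq c (powM aC i)) 11) centA = true := by
  decide +kernel

theorem conjB_ok : allBelow (fun i => anyBelow (fun m =>
    Nat.beq (mulM (powM aC m) (mulM bC (powM aC i))) (mulM bC (powM aC m))) 11) 11 = true := by
  decide +kernel

theorem fix_b (α : MulAut JJ) (ha : α aJ = aJ) :
    ∃ g : JJ, g * aJ * g⁻¹ = aJ ∧ g * α bJ * g⁻¹ = bJ := by
  have h1 : α bJ * aJ = aJ ^ 8 * α bJ := by
    have := congrArg α relAB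
    rwa [map_mul, map_mul, map_pow, ha] at this
  have h2 : (bJ⁻¹ * α bJ) * aJ = aJ * (bJ⁻¹ * α bJ) := by
    have e : bJ⁻¹ * aJ ^ 8 = aJ * bJ⁻¹ := by
      have : aJ ^ 8 = bJ * aJ * bJ⁻¹ := by rw [relAB]; group
      rw [this]; group
    calc (bJ⁻¹ * α bJ) * aJ = bJ⁻¹ * (α bJ * aJ) := by group
      _ = (bJ⁻¹ * aJ ^ 8) * α bJ := by rw [h1]; group
      _ = aJ * (bJ⁻¹ * α bJ) := by rw [e]; group
  have h3 : (bJ⁻¹ * α bJ).1 * aG = aG * (bJ⁻¹ * α bJ).1 := by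
    have := congrArg Subtype.val h2
    rwa [Subgroup.coe_mul, Subgroup.coe_mul _ aJ, aJ_val] at this
  obtain ⟨c, hc, hcc⟩ := cent_a _ (bJ⁻¹ * α bJ).2 h3
  have h4 := (allList_iff _ _).1 centA_pow _ hc
  rw [anyBelow_iff] at h4
  obtain ⟨i, hi, h4⟩ := h4
  rw [Nat.beq_eq] at h4
  have h5 : bJ⁻¹ * α bJ = aJ ^ i := JJ_ext hcc (hasCode_aJ.powJ i) h4
  have h6 : α bJ = bJ * aJ ^ i := by rw [← h5]; group
  have h7 := (allBelow_iff _ _).1 conjB_ok i hi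
  rw [anyBelow_iff] at h7
  obtain ⟨m, _, h7⟩ := h7
  rw [Nat.beq_eq] at h7
  have h8 : aJ ^ m * (bJ * aJ ^ i) = bJ * aJ ^ m :=
    JJ_ext ((hasCode_aJ.powJ m).mulJ (hasCode_bJ.mulJ (hasCode_aJ.powJ i)))
      (hasCode_bJ.mulJ (hasCode_aJ.powJ m)) h7
  refine ⟨aJ ^ m, by group, ?_⟩
  rw [h6, h8]; group

theorem fixV_ok : allList (fun c => bor (bnot (band (Nat.beq (powM c 2) idC)
    (band (Nat.beq (powM (mulM aC c) 7) idC) (Nat.beq (powM (mulM (mulM aC bC) c) 11) idC))))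
    (Nat.beq c vCd)) centT0 = true := by
  decide +kernel

theorem v_sq : vJ ^ 2 = 1 := JJ_ext (hasCode_vJ.powJ 2) HasCode.one (by decide +kernel)
theorem av_pow : (aJ * vJ) ^ 7 = 1 :=
  JJ_ext ((hasCode_aJ.mulJ hasCode_vJ).powJ 7) HasCode.one (by decide +kernel)
theorem abv_pow : (aJ * bJ * vJ) ^ 11 = 1 :=
  JJ_ext (((hasCode_aJ.mulJ hasCode_bJ).mulJ hasCode_vJ).powJ 11) HasCode.one (by decide +kernel)

theorem code_eq_idC {g : JJ} {c : ℕ} (hg : HasCode g.1 c) (hc : canonB c = true) (h : g = 1) :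
    c = idC := by
  rw [h] at hg
  exact hg.code_eq HasCode.one hc canonB_idC

theorem fix_v (α : MulAut JJ) (ha : α aJ = aJ) (hb : α bJ = bJ) : α vJ = vJ := by
  have ht : α t0J = t0J := by rw [t0J_eq, map_pow, hb]
  have hcomm : vJ * t0J = t0J * vJ := by
    apply Subtype.ext
    rw [Subgroup.coe_mul, Subgroup.coe_mul, vJ_val, t0J_val]
    exact comm_v
  have h1 : α vJ * t0J = t0J * α vJ := by
    have := congrArg α hcomm
    rwa [map_mul, map_mul, ht] at this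
  have h2 : (α vJ).1 * t0G = t0G * (α vJ).1 := by
    have := congrArg Subtype.val h1
    rwa [Subgroup.coe_mul, Subgroup.coe_mul, t0J_val] at this
  obtain ⟨c, hc, hcc⟩ := cent_t0 _ (α vJ).2 h2
  have h3 := (allList_iff _ _).1 fixV_ok _ hc
  rw [bor_eq, Bool.or_eq_true, bnot_eq_true, Nat.beq_eq] at h3
  have e1 : (α vJ) ^ 2 = 1 := by rw [← map_pow, v_sq, map_one]
  have e2 : (aJ * α vJ) ^ 7 = 1 := by
    have := congrArg α av_pow
    rwa [map_pow, map_mul, ha, map_one] at this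
  have e3 : (aJ * bJ * α vJ) ^ 11 = 1 := by
    have := congrArg α abv_pow
    rwa [map_pow, map_mul, map_mul, ha, hb, map_one] at this
  rcases h3 with h3 | h3
  · exfalso
    have c1 := code_eq_idC (hcc.powJ 2) (canonB_powM _ _) e1
    have c2 := code_eq_idC ((hasCode_aJ.mulJ hcc).powJ 7) (canonB_powM _ _) e2
    have c3 := code_eq_idC (((hasCode_aJ.mulJ hasCode_bJ).mulJ hcc).powJ 11) (canonB_powM _ _) e3
    rw [c1, c2, c3] at h3
    revert h3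
    decide +kernel
  · exact JJ_ext hcc hasCode_vJ h3

theorem x_word : xJ = bJ * aJ * aJ * vJ * aJ * vJ * bJ * vJ * aJ * aJ * aJ * vJ * aJ :=
  JJ_ext hasCode_xJ ((((((((((((hasCode_bJ.mulJ hasCode_aJ).mulJ hasCode_aJ).mulJ hasCode_vJ).mulJ
    hasCode_aJ).mulJ hasCode_vJ).mulJ hasCode_bJ).mulJ hasCode_vJ).mulJ hasCode_aJ).mulJ
    hasCode_aJ).mulJ hasCode_aJ).mulJ hasCode_vJ).mulJ hasCode_aJ) (by decide +kernel)

theorem hasCode_yJ : HasCode yJ.1 YC := hasCode_Y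

theorem y_word : yJ = vJ * aJ * aJ * bJ * aJ * aJ * vJ * bJ * aJ * aJ * vJ * aJ :=
  JJ_ext hasCode_yJ (((((((((((hasCode_vJ.mulJ hasCode_aJ).mulJ hasCode_aJ).mulJ hasCode_bJ).mulJ
    hasCode_aJ).mulJ hasCode_aJ).mulJ hasCode_vJ).mulJ hasCode_bJ).mulJ hasCode_aJ).mulJ
    hasCode_aJ).mulJ hasCode_vJ).mulJ hasCode_aJ) (by decide +kernel)

theorem eq_one_of_fix (α : MulAut JJ) (ha : α aJ = aJ) (hb : α bJ = bJ) : α = 1 := by
  have hv := fix_v α ha hb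
  have hx : α xJ = xJ := by
    rw [x_word]; simp only [map_mul, ha, hb, hv]
  have hy : α yJ = yJ := by
    rw [y_word]; simp only [map_mul, ha, hb, hv]
  have htop : (α.toMonoidHom.eqLocus (MonoidHom.id JJ)) = ⊤ := eq_top_of_xy hx hy
  ext1 g
  have : g ∈ (α.toMonoidHom.eqLocus (MonoidHom.id JJ)) := htop ▸ Subgroup.mem_top g
  exact this

theorem all_inner (α : MulAut JJ) : α ∈ Cfsg.Inn JJ := by
  obtain ⟨g1, h1⟩ := fix_a α
  have ha1 : (MulAut.conj g1 * α) aJ = aJ := h1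
  obtain ⟨g2, h2, h3⟩ := fix_b (MulAut.conj g1 * α) ha1
  have ha2 : (MulAut.conj g2 * (MulAut.conj g1 * α)) aJ = aJ := by
    show g2 * ((MulAut.conj g1 * α) aJ) * g2⁻¹ = aJ
    rw [ha1, h2]
  have hb2 : (MulAut.conj g2 * (MulAut.conj g1 * α)) bJ = bJ := h3
  have h4 := eq_one_of_fix _ ha2 hb2
  refine ⟨(g2 * g1)⁻¹, ?_⟩
  rw [map_inv, map_mul]
  rw [← mul_assoc] at h4
  exact (eq_inv_of_mul_eq_one_right h4).symm

theorem card_out : Nat.card (Cfsg.Out JJ) = 1 := by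
  have : Cfsg.Inn JJ = ⊤ := by
    rw [eq_top_iff]
    intro α _
    exact all_inner α
  exact Subgroup.index_eq_one.2 this

end Cfsg.Agent.Lib.Helper92.J1
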