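import Cfsg.Agent.Lib.Helper92.J1.Order

/-!
# `J1` is simple
-/

set_option autoImplicit false

namespace Cfsg.Agent.Lib.Helper92.J1

open Cfsg
open Cfsg.Agent.Lib.Helper27
open Cfsg.Agent.Lib.Helper92
open scoped MatrixGroups

/-! ### general group theory -/

theorem factorization_eq_one_of {n p : ℕ} (hp : p.Prime) (hn : n ≠ 0) (h1 : p ∣ n)
    (h2 : ¬ p ^ 2 ∣ n) : n.factorization p = 1 := by
  have a1 : 1 ≤ n.factorization p := by
    rw [← hp.pow_dvd_iff_le_factorization hn, pow_one]; exact h1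
  have a2 : ¬ 2 ≤ n.factorization p := by
    rw [← hp.pow_dvd_iff_le_factorization hn]; exact h2
  omega

/-- subgroups of prime order `p` are conjugate when `p` divides the group order exactly once. -/
theorem exists_conj_of_card_eq_prime {G : Type*} [Group G] [Finite G] {p : ℕ} [Fact p.Prime]
    (h1 : p ∣ Nat.card G) (h2 : ¬ p ^ 2 ∣ Nat.card G) (S S0 : Subgroup G) (hS : Nat.card S = p)
    (hS0 : Nat.card S0 = p) : ∃ k : G, S = S0.map (MulAut.conj k).toMonoidHom := by
  have hp := factorization_eq_one_of (Fact.out : p.Prime) Nat.card_pos.ne' h1 h2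
  let P : Sylow p G := Sylow.ofCard S (by rw [hp, pow_one, hS])
  let P0 : Sylow p G := Sylow.ofCard S0 (by rw [hp, pow_one, hS0])
  obtain ⟨k, hk⟩ := MulAction.exists_smul_eq G P0 P
  refine ⟨k, ?_⟩
  have h1 := congrArg (fun Q : Sylow p G => (Q : Subgroup G)) hk
  simp only [Sylow.coe_subgroup_smul] at h1
  exact h1.symm

/-- elements of prime order `p` (with `p ∥ |G|`): `x` is conjugate to a power of `y`. -/
theorem exists_conj_pow_of_orderOf {G : Type*} [Group G] [Finite G] {p : ℕ} [Fact p.Prime]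
    (h1 : p ∣ Nat.card G) (h2 : ¬ p ^ 2 ∣ Nat.card G) {x y : G} (hx : orderOf x = p)
    (hy : orderOf y = p) : ∃ (k : G) (i : ℤ), x = k * y ^ i * k⁻¹ := by
  obtain ⟨k, hk⟩ := exists_conj_of_card_eq_prime h1 h2 (Subgroup.zpowers x) (Subgroup.zpowers y)
    (by rw [Nat.card_zpowers, hx]) (by rw [Nat.card_zpowers, hy])
  have hxm : x ∈ (Subgroup.zpowers y).map (MulAut.conj k).toMonoidHom := hk ▸ Subgroup.mem_zpowers x
  obtain ⟨z, hz, he⟩ := Subgroup.mem_map.1 hxm
  obtain ⟨i, rfl⟩ := Subgroup.mem_zpowers_iff.1 hz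
  exact ⟨k, i, he.symm⟩

theorem mem_normal_of_orderOf_prime {G : Type*} [Group G] [Finite G] {p : ℕ} [Fact p.Prime]
    (h1 : p ∣ Nat.card G) (h2 : ¬ p ^ 2 ∣ Nat.card G) (N : Subgroup G) [hN : N.Normal] {x y : G}
    (hx : orderOf x = p) (hy : orderOf y = p) (hyN : y ∈ N) : x ∈ N := by
  obtain ⟨k, i, rfl⟩ := exists_conj_pow_of_orderOf h1 h2 hx hy
  exact hN.conj_mem _ (N.zpow_mem hyN i) k

/-- a `p`-element is conjugate into every subgroup of index prime to `p`. -/
theorem exists_conj_mem_of_index {G : Type*} [Group G] [Finite G] {p : ℕ} [Fact p.Prime]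
    (H : Subgroup G) (hH : ¬ p ∣ H.index) {y : G} {n : ℕ} (hy : y ^ p ^ n = 1) :
    ∃ g : G, g⁻¹ * y * g ∈ H := by
  have hQ : IsPGroup p (Subgroup.zpowers y) := by
    rintro ⟨z, hz⟩
    obtain ⟨i, rfl⟩ := Subgroup.mem_zpowers_iff.1 hz
    refine ⟨n, Subtype.ext ?_⟩
    show (y ^ i) ^ p ^ n = 1
    rw [← zpow_natCast, ← zpow_mul, mul_comm, zpow_mul, zpow_natCast, hy, one_zpow]
  obtain ⟨q, hq⟩ := hQ.nonempty_fixed_point_of_prime_not_dvd_card (G ⧸ H) (by
    rwa [← Subgroup.index_eq_card])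
  obtain ⟨g, rfl⟩ := QuotientGroup.mk_surjective q
  refine ⟨g, ?_⟩
  have h := hq ⟨y, Subgroup.mem_zpowers y⟩
  have h' : ((y * g : G) : G ⧸ H) = (g : G ⧸ H) := h
  rw [mul_assoc]
  exact QuotientGroup.eq.1 h'.symm

/-! ### more on codes -/

/-- the transposed code. -/
def trM (c : ℕ) : ℕ := codeOf (fun t => ent c (Nat.add (Nat.mul 7 (Nat.mod t 7)) (Nat.div t 7))) 49

theorem HasCode.inv {g : GL7} {c d : ℕ} (hg : HasCode g c) (h : mulM c d = idC) :
    HasCode g⁻¹ d := by
  have h1 : (g : Mat7) * matOf d = 1 := by rw [hg, ← matOf_mulM, h, matOf_idC]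
  unfold HasCode
  calc ((g⁻¹ : GL7) : Mat7) = ((g⁻¹ : GL7) : Mat7) * ((g : Mat7) * matOf d) := by rw [h1, mul_one]
    _ = matOf d := by rw [← mul_assoc, ← Units.val_mul, inv_mul_cancel, Units.val_one, one_mul]

abbrev JJ := ↥Spor.J1

/-- the element of `J1` given by a word. -/
def wJ (w : List Bool) : JJ := ⟨wordG w, wordG_mem w⟩

theorem card_JJ : Nat.card JJ = 175560 := card_J1

instance : Finite JJ := Nat.finite_of_card_ne_zero (by rw [card_JJ]; norm_num)

theorem orderOf_JJ {g : JJ} {c p : ℕ} [Fact p.Prime] (hg : HasCode g.1 c)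
    (h1 : powM c p = idC) (h2 : mulM c idC ≠ idC) : orderOf g = p := by
  rw [← Subgroup.orderOf_coe]
  exact orderOf_of_code hg h1 h2

/-- the code of `e * (h * e * h⁻¹)`. -/
def uC (eC hC : ℕ) : ℕ := mulM eC (mulM (mulM hC eC) (trM hC))

/-- one step: from `e ∈ N` to `x ∈ N`, where `x` has the prime order of `e * (h * e * h⁻¹)`. -/
theorem step {N : Subgroup JJ} [hN : N.Normal] {e h x : JJ} {eC hC p : ℕ} [Fact p.Prime]
    (he : HasCode e.1 eC) (hh : HasCode h.1 hC) (heN : e ∈ N) (hinv : mulM hC (trM hC) = idC)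
    (h1 : powM (uC eC hC) p = idC) (h2 : mulM (uC eC hC) idC ≠ idC) (hx : orderOf x = p)
    (hp1 : p ∣ 175560) (hp2 : ¬ p ^ 2 ∣ 175560) : x ∈ N := by
  have hu : HasCode (e * (h * e * h⁻¹) : JJ).1 (uC eC hC) := he.mul ((hh.mul he).mul (hh.inv hinv))
  exact mem_normal_of_orderOf_prime (by rw [card_JJ]; exact hp1) (by rw [card_JJ]; exact hp2) N hx
    (orderOf_JJ hu h1 h2) (N.mul_mem heN (hN.conj_mem _ heN _))

instance fact2 : Fact (Nat.Prime 2) := ⟨by norm_num⟩
instance fact5 : Fact (Nat.Prime 5) := ⟨by norm_num⟩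
instance fact7 : Fact (Nat.Prime 7) := ⟨by norm_num⟩
instance fact11 : Fact (Nat.Prime 11) := ⟨by norm_num⟩

def xJ : JJ := ⟨Spor.jankoX, X_mem⟩
def yJ : JJ := ⟨Spor.jankoY, Y_mem⟩

theorem orderOf_xJ : orderOf xJ = 7 :=
  orderOf_JJ (g := xJ) hasCode_X (by decide +kernel) (by decide +kernel)
theorem orderOf_yJ : orderOf yJ = 5 :=
  orderOf_JJ (g := yJ) hasCode_Y (by decide +kernel) (by decide +kernel)
theorem orderOf_aJ : orderOf (wJ aW) = 11 :=
  orderOf_JJ (g := wJ aW) (hasCode_word aW) (by decide +kernel) (by decide +kernel)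
theorem orderOf_c19J : orderOf (wJ c19W) = 19 :=
  orderOf_JJ (g := wJ c19W) (hasCode_word c19W) (by decide +kernel) (by decide +kernel)
theorem orderOf_c3J : orderOf (wJ c3W) = 3 :=
  orderOf_JJ (g := wJ c3W) (hasCode_word c3W) (by decide +kernel) (by decide +kernel)
theorem orderOf_t1J : orderOf (wJ t1W) = 2 :=
  orderOf_JJ (g := wJ t1W) (hasCode_word t1W) (by decide +kernel) (by decide +kernel)

section
variable {N : Subgroup JJ} [hN : N.Normal]

theorem x_of_t1 (h : wJ t1W ∈ N) : xJ ∈ N :=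
  step (p := 7) (e := wJ t1W) (h := wJ [false, true, true, false]) (hasCode_word t1W)
    (hasCode_word [false, true, true, false])
    h (by decide +kernel) (by decide +kernel) (by decide +kernel) orderOf_xJ (by decide +kernel)
    (by decide +kernel)

theorem x_of_c3 (h : wJ c3W ∈ N) : xJ ∈ N :=
  step (p := 7) (e := wJ c3W) (h := wJ [true, true]) (hasCode_word c3W) (hasCode_word [true, true])
    h (by decide +kernel) (by decide +kernel) (by decide +kernel) orderOf_xJ (by decide +kernel)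
    (by decide +kernel)

theorem x_of_y (h : yJ ∈ N) : xJ ∈ N :=
  step (p := 7) (e := yJ) (h := wJ [true, true, true, false, true, true]) hasCode_Y
    (hasCode_word [true, true, true, false, true, true])
    h (by decide +kernel) (by decide +kernel) (by decide +kernel) orderOf_xJ (by decide +kernel)
    (by decide +kernel)

theorem x_of_a (h : wJ aW ∈ N) : xJ ∈ N :=
  step (p := 7) (e := wJ aW) (h := wJ [true, true, true, false, true]) (hasCode_word aW)
    (hasCode_word [true, true, true, false, true])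
    h (by decide +kernel) (by decide +kernel) (by decide +kernel) orderOf_xJ (by decide +kernel)
    (by decide +kernel)

theorem x_of_c19 (h : wJ c19W ∈ N) : xJ ∈ N :=
  step (p := 7) (e := wJ c19W) (h := wJ [true, false, true]) (hasCode_word c19W) (hasCode_word [true, false, true])
    h (by decide +kernel) (by decide +kernel) (by decide +kernel) orderOf_xJ (by decide +kernel)
    (by decide +kernel)

theorem y_of_x (h : xJ ∈ N) : yJ ∈ N :=
  step (p := 5) (e := xJ) (h := wJ [false, true, false, false, false]) hasCode_X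
    (hasCode_word [false, true, false, false, false])
    h (by decide +kernel) (by decide +kernel) (by decide +kernel) orderOf_yJ (by decide +kernel)
    (by decide +kernel)

end

/-- `2^3 : 7` inside `J1`. -/
def FJ : Subgroup JJ := FF.subgroupOf Spor.J1

theorem card_FJ : Nat.card FJ = 56 := by
  rw [← card_FF]
  exact Nat.card_congr (Subgroup.subgroupOfEquivOfLe FF_le).toEquiv

theorem index_FJ : FJ.index = 3135 := by
  have := FJ.card_mul_index
  rw [card_FJ, card_JJ] at this
  omega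

theorem invol_FF : allBelow (fun n => bor (bnot (Nat.beq (powM (nth FT n) 2) idC))
    (bor (Nat.beq (nth FT n) idC) (anyBelow (fun i =>
      Nat.beq (mulM (nth FT n) (powM XC i)) (mulM (powM XC i) t1C)) 7))) 56 = true := by
  decide +kernel

/-- every involution of `J1` is conjugate to `t1`. -/
theorem invol_conj {y : JJ} (hy : orderOf y = 2) : ∃ g : JJ, g⁻¹ * y * g = wJ t1W := by
  have hy2 : y ^ 2 = 1 := by rw [← hy]; exact pow_orderOf_eq_one y
  obtain ⟨g, hg⟩ := exists_conj_mem_of_index (p := 2) (n := 1) FJ (by rw [index_FJ]; decide)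
    (y := y) (by simpa using hy2)
  set y' : JJ := g⁻¹ * y * g with hy'
  have hy'2 : y' ^ 2 = 1 := by
    rw [hy', pow_two]
    have : g⁻¹ * y * g * (g⁻¹ * y * g) = g⁻¹ * (y ^ 2) * g := by rw [pow_two]; group
    rw [this, hy2]; group
  have hy'1 : y' ≠ 1 := by
    intro h
    have : y = 1 := by
      have h2 : y = g * y' * g⁻¹ := by rw [hy']; group
      rw [h2, h]; group
    rw [this, orderOf_one] at hy
    omega
  obtain ⟨n, hn, hc⟩ := (mem_FF_iff y'.1).1 hg
  have hchk := (allBelow_iff _ _).1 invol_FF n hn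
  have hcan : canonB (nth FT n) = true :=
    (distinctB_iff.1 Fdist_ok).1 _ (nth_mem (by
      have : FT.length = 56 := by decide +kernel
      omega))
  rw [bor_eq, bor_eq, Bool.or_eq_true, Bool.or_eq_true, bnot_eq_true, anyBelow_iff] at hchk
  rcases hchk with h | h | ⟨i, _, h⟩
  · exfalso
    have h1 : HasCode (y' ^ 2 : JJ).1 (powM (nth FT n) 2) := hc.pow 2
    rw [hy'2] at h1
    have := h1.code_eq HasCode.one (canonB_powM _ _) canonB_idC
    rw [this] at h
    simp at h
  · exfalso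
    rw [Nat.beq_eq] at h
    rw [h] at hc
    exact hy'1 (Subtype.ext hc.eq_one)
  · rw [Nat.beq_eq] at h
    refine ⟨g * xJ ^ i, ?_⟩
    have h1 : HasCode (y' * xJ ^ i : JJ).1 (mulM (nth FT n) (powM XC i)) :=
      hc.mul (hasCode_X.pow i)
    have h2 : HasCode (xJ ^ i * wJ t1W : JJ).1 (mulM (powM XC i) t1C) :=
      (hasCode_X.pow i).mul hasCode_t1
    rw [h] at h1
    have h3 : y' * xJ ^ i = xJ ^ i * wJ t1W := Subtype.ext (h1.ext h2)
    have : (g * xJ ^ i)⁻¹ * y * (g * xJ ^ i) = (xJ ^ i)⁻¹ * (y' * xJ ^ i) := by rw [hy']; group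
    rw [this, h3]; group

theorem eq_top_of_xy {N : Subgroup JJ} (hx : xJ ∈ N) (hy : yJ ∈ N) : N = ⊤ := by
  rw [eq_top_iff]
  have h : Spor.J1 ≤ N.map Spor.J1.subtype := by
    unfold Spor.J1
    rw [Subgroup.closure_le]
    rintro g (rfl | hg)
    · exact ⟨xJ, hx, rfl⟩
    · rw [Set.mem_singleton_iff.1 hg]
      exact ⟨yJ, hy, rfl⟩
  intro g _
  obtain ⟨n, hn, he⟩ := h g.2
  have : n = g := Subtype.ext he
  rw [← this]; exact hn

theorem prime_dvd_cases {p : ℕ} (hp : p.Prime) (h : p ∣ 175560) :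
    p = 2 ∨ p = 3 ∨ p = 5 ∨ p = 7 ∨ p = 11 ∨ p = 19 := by
  have e : (175560 : ℕ) = 2 * 2 * 2 * 3 * 5 * 7 * 11 * 19 := by norm_num
  rw [e] at h
  simp only [Nat.Prime.dvd_mul hp] at h
  have hh : ∀ q : ℕ, q.Prime → p ∣ q → p = q := fun q hq h => (Nat.prime_dvd_prime_iff_eq hp hq).1 h
  rcases h with ((((((h | h) | h) | h) | h) | h) | h) | h
  · exact Or.inl (hh 2 (by norm_num) h)
  · exact Or.inl (hh 2 (by norm_num) h)
  · exact Or.inl (hh 2 (by norm_num) h)
  · exact Or.inr (Or.inl (hh 3 (by norm_num) h))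
  · exact Or.inr (Or.inr (Or.inl (hh 5 (by norm_num) h)))
  · exact Or.inr (Or.inr (Or.inr (Or.inl (hh 7 (by norm_num) h))))
  · exact Or.inr (Or.inr (Or.inr (Or.inr (Or.inl (hh 11 (by norm_num) h)))))
  · exact Or.inr (Or.inr (Or.inr (Or.inr (Or.inr (hh 19 (by norm_num) h)))))

theorem isSimpleGroup_J1 : IsSimpleGroup JJ := by
  have : Nontrivial JJ := by
    rw [← Finite.one_lt_card_iff_nontrivial, card_JJ]; norm_num
  refine ⟨fun N hN => ?_⟩
  by_cases hbot : N = ⊥
  · exact Or.inl hbot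
  right
  have hcard : Nat.card N ≠ 1 := by
    intro h
    exact hbot (Subgroup.card_eq_one.1 h)
  obtain ⟨p, hp, hpN⟩ := Nat.exists_prime_and_dvd hcard
  have : Fact p.Prime := ⟨hp⟩
  obtain ⟨y, hy⟩ := exists_prime_orderOf_dvd_card' p hpN
  have hy' : orderOf (y : JJ) = p := by rw [Subgroup.orderOf_coe]; exact hy
  have hpG : p ∣ 175560 := by
    rw [← card_JJ]; exact hpN.trans (Subgroup.card_subgroup_dvd_card N)
  have hx : xJ ∈ N := by
    have key : ∀ (q : ℕ) [Fact q.Prime] (x : JJ), p = q → orderOf x = q → ¬ q ^ 2 ∣ 175560 → x ∈ N := by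
      intro q _ x hpq hx h2
      subst hpq
      exact mem_normal_of_orderOf_prime (by rw [card_JJ]; exact hpG) (by rw [card_JJ]; exact h2) N hx
        hy' y.2
    rcases prime_dvd_cases hp hpG with h | h | h | h | h | h
    · obtain ⟨g, hg⟩ := invol_conj (y := (y : JJ)) (by rw [hy', h])
      apply x_of_t1
      rw [← hg]
      have := hN.conj_mem _ y.2 g⁻¹
      simpa using this
    · exact x_of_c3 (key 3 _ h orderOf_c3J (by decide +kernel))
    · exact x_of_y (key 5 _ h orderOf_yJ (by decide +kernel))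
    · exact key 7 _ h orderOf_xJ (by decide +kernel)
    · exact x_of_a (key 11 _ h orderOf_aJ (by decide +kernel))
    · exact x_of_c19 (key 19 _ h orderOf_c19J (by decide +kernel))
  exact eq_top_of_xy hx (y_of_x hx)

end Cfsg.Agent.Lib.Helper92.J1
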