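import Cfsg.Agent.Lib.Helper92.J1.Cent

/-!
# The element orders of `J1`
-/

set_option autoImplicit false

namespace Cfsg.Agent.Lib.Helper92.J1

open Cfsg
open Cfsg.Agent.Lib.Helper27
open Cfsg.Agent.Lib.Helper92
open scoped MatrixGroups

theorem orderOf_conj' {G : Type*} [Group G] (k g : G) : orderOf (k⁻¹ * g * k) = orderOf g := by
  have := MulEquiv.orderOf_eq (MulAut.conj k⁻¹) g
  rwa [MulAut.conj_apply, inv_inv] at this

theorem pow_eq_one_of_code {g : JJ} {c n : ℕ} (hg : HasCode g.1 c) (h : powM c n = idC) :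
    g ^ n = 1 := by
  apply Subtype.ext
  have := hg.pow n
  rw [h] at this
  exact this.eq_one

/-- if `q ∥ |J1|`, and the centraliser of the element `s` of order `q` has exponent `q`, then the
elements of order divisible by `q` have order `q`. -/
theorem orderOf_eq_of_dvd {q : ℕ} [Fact q.Prime] (hq1 : q ∣ 175560) (hq2 : ¬ q ^ 2 ∣ 175560)
    {s : JJ} (hs : orderOf s = q) {CL : List ℕ}
    (hC : ∀ g ∈ Spor.J1, g * s.1 = s.1 * g → ∃ c ∈ CL, HasCode g c)
    (hexp : allList (fun c => Nat.beq (powM c q) idC) CL = true) {g : JJ} (hg : q ∣ orderOf g) :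
    orderOf g = q := by
  have h0 : orderOf g ≠ 0 := (orderOf_pos g).ne'
  have hh : orderOf (g ^ (orderOf g / q)) = q := orderOf_pow_orderOf_div h0 hg
  obtain ⟨k, i, he⟩ := exists_conj_pow_of_orderOf (by rw [card_JJ]; exact hq1)
    (by rw [card_JJ]; exact hq2) hs hh
  set g' : JJ := k * g * k⁻¹ with hg'
  have hcomm : g' * s = s * g' := by
    rw [he, hg']
    have h1 : g * (g ^ (orderOf g / q)) ^ i = (g ^ (orderOf g / q)) ^ i * g :=
      ((Commute.refl g).pow_right _).zpow_right i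
    calc k * g * k⁻¹ * (k * (g ^ (orderOf g / q)) ^ i * k⁻¹)
        = k * (g * (g ^ (orderOf g / q)) ^ i) * k⁻¹ := by group
      _ = k * ((g ^ (orderOf g / q)) ^ i * g) * k⁻¹ := by rw [h1]
      _ = k * (g ^ (orderOf g / q)) ^ i * k⁻¹ * (k * g * k⁻¹) := by group
  obtain ⟨c, hc, hgc⟩ := hC g'.1 g'.2 (congrArg Subtype.val hcomm)
  rw [allList_iff] at hexp
  have h2 := hexp c hc
  rw [Nat.beq_eq] at h2
  have h3 : g' ^ q = 1 := pow_eq_one_of_code hgc h2
  have h4 : g ^ q = 1 := by
    have : g' ^ q = k * g ^ q * k⁻¹ := by rw [hg', conj_pow]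
    rw [this] at h3
    have : g ^ q = k⁻¹ * (k * g ^ q * k⁻¹) * k := by group
    rw [this, h3]; group
  exact Nat.dvd_antisymm (orderOf_dvd_of_pow_eq_one h4) hg

theorem order7 {g : JJ} (hg : 7 ∣ orderOf g) : orderOf g = 7 :=
  orderOf_eq_of_dvd (by decide +kernel) (by decide +kernel) orderOf_xJ cent_X (by decide +kernel) hg

theorem order11 {g : JJ} (hg : 11 ∣ orderOf g) : orderOf g = 11 :=
  orderOf_eq_of_dvd (by decide +kernel) (by decide +kernel) orderOf_aJ cent_a (by decide +kernel) hg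

theorem order19 {g : JJ} (hg : 19 ∣ orderOf g) : orderOf g = 19 :=
  orderOf_eq_of_dvd (by decide +kernel) (by decide +kernel) orderOf_c19J cent_c19
    (by decide +kernel) hg

theorem exp_FF : allList (fun c => bor (Nat.beq (powM c 2) idC) (Nat.beq (powM c 7) idC)) FT = true := by
  decide +kernel

theorem not_four_dvd (g : JJ) : ¬ 4 ∣ orderOf g := by
  intro hg
  have h0 : orderOf g ≠ 0 := (orderOf_pos g).ne'
  have hh : orderOf (g ^ (orderOf g / 4)) = 4 := orderOf_pow_orderOf_div h0 hg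
  set h := g ^ (orderOf g / 4) with hh'
  obtain ⟨k, hk⟩ := exists_conj_mem_of_index (p := 2) (n := 2) FJ (by rw [index_FJ]; decide)
    (y := h) (by
      have := pow_orderOf_eq_one h
      rwa [hh] at this)
  obtain ⟨n, hn, hc⟩ := (mem_FF_iff _).1 hk
  have hmem : nth FT n ∈ FT := nth_mem (by
    have : FT.length = 56 := by decide +kernel
    omega)
  have h1 := (allList_iff _ _).1 exp_FF _ hmem
  rw [bor_eq, Bool.or_eq_true, Nat.beq_eq, Nat.beq_eq] at h1
  have hord : orderOf (k⁻¹ * h * k) = 4 := by rw [orderOf_conj', hh]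
  rcases h1 with h1 | h1
  · have := orderOf_dvd_of_pow_eq_one (pow_eq_one_of_code (g := k⁻¹ * h * k) hc h1)
    rw [hord] at this
    omega
  · have := orderOf_dvd_of_pow_eq_one (pow_eq_one_of_code (g := k⁻¹ * h * k) hc h1)
    rw [hord] at this
    omega

/-- the involution `b ^ 5` in `J1`. -/
def t0J : JJ := ⟨t0G, Spor.J1.pow_mem b_mem 5⟩

theorem t0J_val : (t0J : GL7) = t0G := rfl

theorem orderOf_t0J : orderOf t0J = 2 :=
  orderOf_JJ (g := t0J) hasCode_t0 (by decide +kernel) (by decide +kernel)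

theorem invol_conj_t0 {y : JJ} (hy : orderOf y = 2) : ∃ g : JJ, g⁻¹ * y * g = t0J := by
  obtain ⟨g1, h1⟩ := invol_conj hy
  obtain ⟨g2, h2⟩ := invol_conj orderOf_t0J
  refine ⟨g1 * g2⁻¹, ?_⟩
  have : t0J = g2 * wJ t1W * g2⁻¹ := by rw [← h2]; group
  rw [this, ← h1]; group

theorem exp_centT0 :
    allList (fun c => bor (Nat.beq (powM c 6) idC) (Nat.beq (powM c 10) idC)) centT0 = true := by
  decide +kernel

theorem order_ne_30 (g : JJ) : orderOf g ≠ 30 := by
  intro hg
  have hh : orderOf (g ^ (orderOf g / 2)) = 2 :=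
    orderOf_pow_orderOf_div (by rw [hg]; norm_num) (by rw [hg]; norm_num)
  obtain ⟨k, hk⟩ := invol_conj_t0 hh
  set g' : JJ := k⁻¹ * g * k with hg'
  have hcomm : g' * t0J = t0J * g' := by
    rw [← hk, hg']
    have h1 : g * g ^ (orderOf g / 2) = g ^ (orderOf g / 2) * g := (Commute.refl g).pow_right _
    calc k⁻¹ * g * k * (k⁻¹ * g ^ (orderOf g / 2) * k)
        = k⁻¹ * (g * g ^ (orderOf g / 2)) * k := by group
      _ = k⁻¹ * (g ^ (orderOf g / 2) * g) * k := by rw [h1]
      _ = k⁻¹ * g ^ (orderOf g / 2) * k * (k⁻¹ * g * k) := by group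
  have hcomm' : g'.1 * t0G = t0G * g'.1 := by
    have h := congrArg Subtype.val hcomm
    rwa [Subgroup.coe_mul, Subgroup.coe_mul, t0J_val] at h
  obtain ⟨c, hc, hgc⟩ := cent_t0 g'.1 g'.2 hcomm'
  have h1 := (allList_iff _ _).1 exp_centT0 _ hc
  rw [bor_eq, Bool.or_eq_true, Nat.beq_eq, Nat.beq_eq] at h1
  have hord : orderOf g' = 30 := by rw [hg', orderOf_conj', hg]
  rcases h1 with h1 | h1
  · have := orderOf_dvd_of_pow_eq_one (pow_eq_one_of_code hgc h1)
    rw [hord] at this
    omega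
  · have := orderOf_dvd_of_pow_eq_one (pow_eq_one_of_code hgc h1)
    rw [hord] at this
    omega

theorem div120B : allBelow (fun n => bor (bnot (Nat.beq (120 % n) 0)) (bor (Nat.beq (n % 4) 0)
    (memL n [30, 1, 2, 3, 5, 6, 10, 15]))) 121 = true := by decide +kernel

theorem div120 (n : ℕ) (hn : n < 121) (h1 : 120 % n = 0) (h2 : n % 4 ≠ 0) (h3 : n ≠ 30) :
    n = 1 ∨ n = 2 ∨ n = 3 ∨ n = 5 ∨ n = 6 ∨ n = 10 ∨ n = 15 := by
  have h := (allBelow_iff _ _).1 div120B n hn
  rw [bor_eq, bor_eq, Bool.or_eq_true, Bool.or_eq_true, bnot_eq_true, Nat.beq_eq, memL_iff] at h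
  rcases h with h | h | h
  · rw [h1] at h; simp at h
  · exact absurd h h2
  · simp only [List.mem_cons, List.not_mem_nil, or_false] at h
    tauto

/-- the element orders of `J1`. -/
theorem orderOf_mem (g : JJ) : orderOf g = 1 ∨ orderOf g = 2 ∨ orderOf g = 3 ∨ orderOf g = 5 ∨
    orderOf g = 6 ∨ orderOf g = 10 ∨ orderOf g = 15 ∨ orderOf g = 7 ∨ orderOf g = 11 ∨
    orderOf g = 19 := by
  by_cases h7 : 7 ∣ orderOf g
  · simp [order7 h7]
  by_cases h11 : 11 ∣ orderOf g
  · simp [order11 h11]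
  by_cases h19 : 19 ∣ orderOf g
  · simp [order19 h19]
  have hd : orderOf g ∣ 175560 := by rw [← card_JJ]; exact orderOf_dvd_natCard g
  have c7 : Nat.Coprime (orderOf g) 7 :=
    ((Nat.Prime.coprime_iff_not_dvd (by norm_num)).2 h7).symm
  have c11 : Nat.Coprime (orderOf g) 11 :=
    ((Nat.Prime.coprime_iff_not_dvd (by norm_num)).2 h11).symm
  have c19 : Nat.Coprime (orderOf g) 19 :=
    ((Nat.Prime.coprime_iff_not_dvd (by norm_num)).2 h19).symm
  have d1 : orderOf g ∣ 25080 := c7.dvd_of_dvd_mul_right (by simpa using hd)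
  have d2 : orderOf g ∣ 2280 := c11.dvd_of_dvd_mul_right (by simpa using d1)
  have d3 : orderOf g ∣ 120 := c19.dvd_of_dvd_mul_right (by simpa using d2)
  have := div120 _ (Nat.lt_succ_of_le (Nat.le_of_dvd (by norm_num) d3))
    (Nat.mod_eq_zero_of_dvd d3) (fun h => not_four_dvd g (Nat.dvd_of_mod_eq_zero h))
    (order_ne_30 g)
  tauto

/-- the order of an element from its code (any order). -/
theorem orderOf_JJ' {g : JJ} {c n : ℕ} (hn : 0 < n) (hg : HasCode g.1 c) (h1 : powM c n = idC)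
    (h2 : allBelow (fun m => bor (Nat.beq m 0) (bnot (Nat.beq (powM c m) idC))) n = true) :
    orderOf g = n := by
  rw [orderOf_eq_iff hn]
  refine ⟨pow_eq_one_of_code hg h1, fun m hm hm0 he => ?_⟩
  have h3 := (allBelow_iff _ _).1 h2 m hm
  rw [bor_eq, Bool.or_eq_true, Nat.beq_eq, bnot_eq_true] at h3
  rcases h3 with h3 | h3
  · omega
  · have h4 : HasCode (g ^ m : JJ).1 (powM c m) := hg.pow m
    rw [he] at h4
    have := h4.code_eq HasCode.one (canonB_powM _ _) canonB_idC
    rw [this] at h3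
    simp at h3

def c6W : List Bool := [true, false, false, false]
def c10W : List Bool := [true, false]
def c15W : List Bool := [true, true, false, false, true, false, true, false, false]

theorem orderOf_c6J : orderOf (wJ c6W) = 6 :=
  orderOf_JJ' (g := wJ c6W) (by norm_num) (hasCode_word c6W) (by decide +kernel) (by decide +kernel)
theorem orderOf_c10J : orderOf (wJ c10W) = 10 :=
  orderOf_JJ' (g := wJ c10W) (by norm_num) (hasCode_word c10W) (by decide +kernel)
    (by decide +kernel)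
theorem orderOf_c15J : orderOf (wJ c15W) = 15 :=
  orderOf_JJ' (g := wJ c15W) (by norm_num) (hasCode_word c15W) (by decide +kernel)
    (by decide +kernel)

end Cfsg.Agent.Lib.Helper92.J1
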